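import Mathlib.GroupTheory.Sylow
import Cfsg.Agent.Cores.Basic
import Cfsg.Agent.Cores.Fitting
import Cfsg.Agent.Coprime.Action
import Cfsg.Agent.Lib.Hall
import Cfsg.Agent.LocalP.Basic

/-!
# Finite groups whose `p'`-subgroups are abelian: structure of the solvable ones
-/

set_option autoImplicit false

namespace Cfsg.Agent.OddPre.PPrimeAbelian

open Subgroup

variable {X : Type*} [Group X] {p : ℕ}

/-- Every subgroup of order prime to `p` is abelian. -/
def Ab (p : ℕ) (X : Type*) [Group X] : Prop :=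
  ∀ H : Subgroup X, ¬ p ∣ Nat.card H → ∀ x ∈ H, ∀ y ∈ H, x * y = y * x

theorem Ab.subgroup (h : Ab p X) (L : Subgroup X) : Ab p L := by
  intro H hH x hx y hy
  have hc : Nat.card (H.map L.subtype) = Nat.card H :=
    (Nat.card_congr (H.equivMapOfInjective _ L.subtype_injective).toEquiv).symm
  exact Subtype.ext (h (H.map L.subtype) (hc ▸ hH) _ ⟨x, hx, rfl⟩ _ ⟨y, hy, rfl⟩)

/-- A `p'`-subgroup of a quotient is covered by a `p'`-subgroup when its preimage is solvable. -/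
theorem exists_lift_coprime [Finite X] (hp : p.Prime) (N : Subgroup X) [N.Normal]
    (H : Subgroup (X ⧸ N)) (hH : ¬ p ∣ Nat.card H)
    (hs : Group.IsSolvable ↥(H.comap (QuotientGroup.mk' N))) :
    ∃ K : Subgroup X, ¬ p ∣ Nat.card K ∧ K.map (QuotientGroup.mk' N) = H := by
  let f : ↥(H.comap (QuotientGroup.mk' N)) →* H := (QuotientGroup.mk' N).subgroupComap H
  have hf : Function.Surjective f :=
    (QuotientGroup.mk' N).subgroupComap_surjective_of_surjective H (QuotientGroup.mk'_surjective N)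
  obtain ⟨K, hK⟩ := Hall.exists_isPiHall (G := ↥(H.comap (QuotientGroup.mk' N))) {q : ℕ | q ≠ p}
  have hKf : K.map f = ⊤ := by
    rw [← index_eq_one]
    by_contra hne
    obtain ⟨q, hq, hqd⟩ := Nat.exists_prime_and_dvd hne
    have hqi : q ∣ K.index := hqd.trans (index_map_dvd K hf)
    by_cases hqp : q = p
    · subst hqp
      exact hH (hqd.trans (index_dvd_card _))
    · exact hK.2 q hq hqp hqi
  refine ⟨K.map (H.comap (QuotientGroup.mk' N)).subtype, ?_, ?_⟩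
  · rw [← Nat.card_congr (K.equivMapOfInjective _ (subtype_injective _)).toEquiv]
    exact fun hd => hK.1 p hp hd rfl
  · refine le_antisymm ?_ fun z hz => ?_
    · rintro _ ⟨_, ⟨w, hw, rfl⟩, rfl⟩
      exact w.2
    · have hz' : (⟨z, hz⟩ : H) ∈ K.map f := by rw [hKf]; trivial
      obtain ⟨w, hw, hwz⟩ := hz'
      exact ⟨_, ⟨w, hw, rfl⟩, congrArg Subtype.val hwz⟩

theorem Ab.quotient_of_lift (h : Ab p X) {N : Subgroup X} [N.Normal]
    (hl : ∀ H : Subgroup (X ⧸ N), ¬ p ∣ Nat.card H →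
      ∃ K : Subgroup X, ¬ p ∣ Nat.card K ∧ K.map (QuotientGroup.mk' N) = H) : Ab p (X ⧸ N) := by
  intro H hH x hx y hy
  obtain ⟨K, hK, rfl⟩ := hl H hH
  obtain ⟨a, ha, rfl⟩ := hx
  obtain ⟨b, hb, rfl⟩ := hy
  rw [← map_mul, ← map_mul, h K hK a ha b hb]

theorem Ab.quotient [Finite X] [Group.IsSolvable X] [hp : Fact p.Prime] (h : Ab p X)
    (N : Subgroup X) [N.Normal] : Ab p (X ⧸ N) :=
  h.quotient_of_lift fun H hH => exists_lift_coprime hp.out N H hH inferInstance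

theorem not_dvd_card_sup [Finite X] [hp : Fact p.Prime] {A B : Subgroup X} [B.Normal]
    (hA : ¬ p ∣ Nat.card A) (hB : ¬ p ∣ Nat.card B) : ¬ p ∣ Nat.card ↥(A ⊔ B) := fun hd =>
  (hp.out.dvd_mul.1 (hd.trans (Cores.card_sup_dvd_mul A B))).elim hA hB

theorem eq_one_of_pow_of_not_dvd [hp : Fact p.Prime] {H : Subgroup X} (hH : ¬ p ∣ Nat.card H)
    {x : X} (hx : x ∈ H) {k : ℕ} (hk : x ^ p ^ k = 1) : x = 1 := by
  have h1 : orderOf x ∣ Nat.card H := Subgroup.orderOf_dvd_natCard H hx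
  obtain ⟨j, -, hj⟩ := (Nat.dvd_prime_pow hp.out).1 (orderOf_dvd_of_pow_eq_one hk)
  rcases Nat.eq_zero_or_pos j with hj0 | hj0
  · exact orderOf_eq_one_iff.1 (by rw [hj, hj0, pow_zero])
  · exact absurd ((dvd_pow_self p hj0.ne').trans (hj ▸ h1)) hH

/-- With trivial `O_p`, the Fitting subgroup is a `p'`-group containing every `p'`-subgroup. -/
theorem Ab.fitting_facts [Finite X] [Group.IsSolvable X] [hp : Fact p.Prime] (h : Ab p X)
    (hO : Cfsg.pCore p X = ⊥) :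
    (Cfsg.fittingSubgroup X).Normal ∧ ¬ p ∣ Nat.card (Cfsg.fittingSubgroup X) ∧
      centralizer (Cfsg.fittingSubgroup X : Set X) ≤ Cfsg.fittingSubgroup X ∧
      ∀ H : Subgroup X, ¬ p ∣ Nat.card H → H ≤ Cfsg.fittingSubgroup X := by
  set F := Cfsg.fittingSubgroup X with hF
  have hFn : F.Normal := inferInstance
  have hFp : ¬ p ∣ Nat.card F := by
    intro hd
    obtain ⟨P⟩ : Nonempty (Sylow p F) := inferInstance
    haveI := Cores.fittingSubgroup_isNilpotent (G := X)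
    have hPn : (P : Subgroup F).Normal := inferInstance
    have h1 : (Cfsg.pCore p F).map F.subtype = ⊥ := by
      rw [Cores.map_subtype_pCore_eq, hO, inf_bot_eq]
    have h2 : (P : Subgroup F) = ⊥ :=
      (map_eq_bot_iff_of_injective _ F.subtype_injective).1
        (le_bot_iff.1 (h1 ▸ map_mono (Cores.le_pCore hPn P.2)))
    exact P.ne_bot_of_dvd_card hd h2
  have hC := Cores.centralizer_fittingSubgroup_le (G := X)
  refine ⟨hFn, hFp, hC, fun H hH x hx => hC (mem_centralizer_iff.2 fun f hf => ?_)⟩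
  exact h _ (not_dvd_card_sup hH hFp) f (mem_sup_right hf) x (mem_sup_left hx)

theorem not_dvd_card_zpowers {a : X} (ha : ¬ p ∣ orderOf a) : ¬ p ∣ Nat.card (zpowers a) := by
  rwa [Nat.card_zpowers]

theorem coprime_zpowers_pCore [Finite X] [hp : Fact p.Prime] {A : Subgroup X}
    (hA : ¬ p ∣ Nat.card A) : (Nat.card A).Coprime (Nat.card (Cfsg.pCore p X)) := by
  obtain ⟨k, hk⟩ := (Cores.pCore_isPGroup (p := p) (G := X)).exists_card_eq
  rw [hk]
  exact ((hp.out.coprime_iff_not_dvd.2 hA).symm).pow_right k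

/-- A `p`-subgroup of `C(a)` normalized by `C(a)`, `a` a `p'`-element, lies in `O_p`. -/
theorem Ab.le_pCore_of_cent [Finite X] [Group.IsSolvable X] [hp : Fact p.Prime] (h : Ab p X)
    {a : X} (ha : ¬ p ∣ orderOf a) {V : Subgroup X} (hV : IsPGroup p V)
    (hVa : V ≤ centralizer {a}) (hn : centralizer {a} ≤ normalizer (V : Set X)) :
    V ≤ Cfsg.pCore p X := by
  set π := QuotientGroup.mk' (Cfsg.pCore p X) with hπ
  obtain ⟨hFn, hFp, hC, hall⟩ :=
    (h.quotient (Cfsg.pCore p X)).fitting_facts Cores.pCore_quotient_pCore_eq_bot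
  set F := Cfsg.fittingSubgroup (X ⧸ Cfsg.pCore p X) with hF
  have hA : ¬ p ∣ Nat.card (zpowers a) := not_dvd_card_zpowers ha
  have hAF : (zpowers a).map π ≤ F := hall _ fun hd => hA (hd.trans (card_map_dvd _ _))
  have hcent := Coprime.centralizer_map_mk' (zpowers a) (Cfsg.pCore p X)
    (coprime_zpowers_pCore hA) (Or.inl inferInstance)
  intro v hv
  rw [← QuotientGroup.eq_one_iff]
  have hcF : π v ∈ centralizer (F : Set (X ⧸ Cfsg.pCore p X)) := by
    refine mem_centralizer_iff.2 fun f hf => ?_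
    have hfc : f ∈ centralizer (((zpowers a).map π : Subgroup _) : Set _) :=
      mem_centralizer_iff.2 fun z hz =>
        (h.quotient (Cfsg.pCore p X)) F hFp z (hAF hz) f hf
    rw [hπ, hcent] at hfc
    obtain ⟨c, hc, rfl⟩ := hfc
    have hca : c ∈ centralizer {a} := mem_centralizer_singleton_iff.2
      (mem_centralizer_iff.1 hc a (mem_zpowers a)).symm
    have h1 : c * v * c⁻¹ * v⁻¹ ∈ V :=
      mul_mem ((mem_normalizer_iff.1 (hn hca) v).1 hv) (inv_mem hv)
    have h2 : π (c * v * c⁻¹ * v⁻¹) ∈ F := by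
      have : π c * (π v * (π c)⁻¹ * (π v)⁻¹) ∈ F :=
        mul_mem hf (hFn.conj_mem _ (inv_mem hf) _)
      simpa [map_mul, map_inv, mul_assoc] using this
    obtain ⟨k, hk⟩ := hV ⟨_, h1⟩
    have hk' : (c * v * c⁻¹ * v⁻¹) ^ p ^ k = 1 := congrArg Subtype.val hk
    have h3 : π (c * v * c⁻¹ * v⁻¹) ^ p ^ k = 1 := by
      rw [← map_pow, hk', map_one]
    have h4 := eq_one_of_pow_of_not_dvd hFp h2 h3
    rw [map_mul, map_mul, map_mul, map_inv, map_inv, mul_inv_eq_one, mul_inv_eq_iff_eq_mul] at h4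
    exact h4
  obtain ⟨k, hk⟩ := hV ⟨v, hv⟩
  have hk' : v ^ p ^ k = 1 := congrArg Subtype.val hk
  have hpow : π v ^ p ^ k = 1 := by rw [← map_pow, hk', map_one]
  exact eq_one_of_pow_of_not_dvd hFp (hC hcF) hpow

/-- A `p'`-element normalizing a `p`-subgroup centralizes it modulo `O_p`. -/
theorem Ab.conj_mem_pCore [Finite X] [Group.IsSolvable X] [hp : Fact p.Prime] (h : Ab p X)
    {a : X} (ha : ¬ p ∣ orderOf a) {R : Subgroup X} (hR : IsPGroup p R)
    (hn : a ∈ normalizer (R : Set X)) {r : X} (hr : r ∈ R) :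
    a * r * a⁻¹ * r⁻¹ ∈ Cfsg.pCore p X := by
  obtain ⟨hFn, hFp, hC, hall⟩ :=
    (h.quotient (Cfsg.pCore p X)).fitting_facts Cores.pCore_quotient_pCore_eq_bot
  set π := QuotientGroup.mk' (Cfsg.pCore p X) with hπ
  have hA : ¬ p ∣ Nat.card (zpowers a) := not_dvd_card_zpowers ha
  have haF : π a ∈ Cfsg.fittingSubgroup (X ⧸ Cfsg.pCore p X) :=
    hall _ (fun hd => hA (hd.trans (card_map_dvd _ _))) ⟨a, mem_zpowers a, rfl⟩
  have h1 : a * r * a⁻¹ * r⁻¹ ∈ R := mul_mem ((mem_normalizer_iff.1 hn r).1 hr) (inv_mem hr)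
  have h2 : π (a * r * a⁻¹ * r⁻¹) ∈ Cfsg.fittingSubgroup (X ⧸ Cfsg.pCore p X) := by
    have : π a * (π r * (π a)⁻¹ * (π r)⁻¹) ∈ Cfsg.fittingSubgroup (X ⧸ Cfsg.pCore p X) :=
      mul_mem haF (hFn.conj_mem _ (inv_mem haF) _)
    simpa [map_mul, map_inv, mul_assoc] using this
  obtain ⟨k, hk⟩ := hR ⟨_, h1⟩
  have hk' : (a * r * a⁻¹ * r⁻¹) ^ p ^ k = 1 := congrArg Subtype.val hk
  have hpow : π (a * r * a⁻¹ * r⁻¹) ^ p ^ k = 1 := by rw [← map_pow, hk', map_one]
  exact (QuotientGroup.eq_one_iff _).1 (eq_one_of_pow_of_not_dvd hFp h2 hpow)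

/-- A subgroup of exponent two containing all the involutions that commute with it. -/
structure IsFullTwo (E : Subgroup X) : Prop where
  sq : ∀ x ∈ E, x ^ 2 = 1
  full : ∀ x : X, x ^ 2 = 1 → (∀ e ∈ E, e * x = x * e) → x ∈ E

theorem IsFullTwo.not_dvd_card [Finite X] [hp : Fact p.Prime] {E : Subgroup X} (hE : IsFullTwo E)
    (hp2 : p ≠ 2) : ¬ p ∣ Nat.card E := by
  intro hd
  obtain ⟨x, hx⟩ := exists_prime_orderOf_dvd_card' p hd
  have h2 : orderOf x ∣ 2 := orderOf_dvd_of_pow_eq_one (Subtype.ext (hE.sq x x.2))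
  rw [hx] at h2
  exact hp2 ((Nat.prime_dvd_prime_iff_eq hp.out Nat.prime_two).1 h2)

theorem Ab.sup_pCore_normal [Finite X] [Group.IsSolvable X] [hp : Fact p.Prime] (h : Ab p X)
    (hp2 : p ≠ 2) {E : Subgroup X} (hE : IsFullTwo E) : (E ⊔ Cfsg.pCore p X).Normal := by
  set Q := Cfsg.pCore p X with hQ
  set π := QuotientGroup.mk' Q with hπ
  have hQE : (E.map π).comap π = E ⊔ Q := by
    rw [hπ, comap_map_eq, QuotientGroup.ker_mk']
  obtain ⟨hFn, hFp, hC, hall⟩ := (h.quotient Q).fitting_facts Cores.pCore_quotient_pCore_eq_bot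
  have hEp := hE.not_dvd_card (p := p) hp2
  have hEF : E.map π ≤ Cfsg.fittingSubgroup (X ⧸ Q) :=
    hall _ fun hd => hEp (hd.trans (card_map_dvd _ _))
  rw [← hQE]
  refine Normal.comap ?_ π
  constructor
  rintro z ⟨e, he, rfl⟩ g
  set y := g * π e * g⁻¹ with hy
  have hyF : y ∈ Cfsg.fittingSubgroup (X ⧸ Q) := hFn.conj_mem _ (hEF ⟨e, he, rfl⟩) g
  have hy2 : y ^ 2 = 1 := by
    rw [hy, conj_pow, ← map_pow, hE.sq e he, map_one, mul_one, mul_inv_cancel]
  have hyC : y ∈ centralizer ((E.map π : Subgroup _) : Set _) :=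
    mem_centralizer_iff.2 fun w hw => (h.quotient Q) _ hFp w (hEF hw) y hyF
  rw [hπ, Coprime.centralizer_map_mk' E Q (coprime_zpowers_pCore hEp)
    (Or.inl inferInstance)] at hyC
  obtain ⟨c, hc, hcy⟩ := hyC
  have hc2 : c ^ 2 ∈ Q := (QuotientGroup.eq_one_iff (N := Q) _).1 (by
    show π (c ^ 2) = 1
    rw [map_pow, hπ, hcy, hy2])
  obtain ⟨k, hk⟩ := Cores.pCore_isPGroup (p := p) (G := X) ⟨_, hc2⟩
  have hk' : (c ^ 2) ^ p ^ k = 1 := congrArg Subtype.val hk
  have hm : Odd (p ^ k) := (hp.out.odd_of_ne_two hp2).pow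
  refine ⟨c ^ p ^ k, hE.full _ ?_ (fun e' he' => ?_), ?_⟩
  · rw [← pow_mul, mul_comm, pow_mul, hk']
  · exact ((show Commute e' c from mem_centralizer_iff.1 hc e' he').pow_right _).eq
  · obtain ⟨j, hj⟩ := hm
    rw [map_pow, hcy, hj, pow_succ, pow_mul, hy2, one_pow, one_mul]

theorem Ab.pCore_sup_normalizer [Finite X] [Group.IsSolvable X] [hp : Fact p.Prime] (h : Ab p X)
    (hp2 : p ≠ 2) {E : Subgroup X} (hE : IsFullTwo E) :
    Cfsg.pCore p X ⊔ normalizer (E : Set X) = ⊤ := by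
  haveI : Fact (Nat.Prime 2) := ⟨Nat.prime_two⟩
  haveI hN := h.sup_pCore_normal hp2 hE
  set N := E ⊔ Cfsg.pCore p X with hNdef
  have hE2 : IsPGroup 2 (E.subgroupOf N) := fun x =>
    ⟨1, Subtype.ext (Subtype.ext (hE.sq _ x.2))⟩
  have hidx : ¬ 2 ∣ (E.subgroupOf N).index := by
    intro hd
    have hN' : Nat.card N ∣ Nat.card E * Nat.card (Cfsg.pCore p X) :=
      Cores.card_sup_dvd_mul E (Cfsg.pCore p X)
    have hEN : Nat.card (E.subgroupOf N) = Nat.card E :=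
      Nat.card_congr (subgroupOfEquivOfLe le_sup_left).toEquiv
    rw [← card_mul_index (E.subgroupOf N), hEN] at hN'
    have h2 := Nat.dvd_of_mul_dvd_mul_left Nat.card_pos hN'
    obtain ⟨k, hk⟩ := (Cores.pCore_isPGroup (p := p) (G := X)).exists_card_eq
    rw [hk] at h2
    exact hp2 ((Nat.prime_dvd_prime_iff_eq Nat.prime_two hp.out).1
      (Nat.prime_two.dvd_of_dvd_pow (hd.trans h2))).symm
  have key := Sylow.normalizer_sup_eq_top (hE2.toSylow hidx)
  rw [IsPGroup.toSylow_coe hE2 hidx, map_subgroupOf_eq_of_le (le_sup_left : E ≤ N)] at key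
  rw [eq_top_iff, ← key]
  exact sup_le le_sup_right (sup_le (Subgroup.le_normalizer.trans le_sup_right) le_sup_left)

section Ambient

variable {G : Type*} [Group G] [Finite G] [hp : Fact p.Prime]

theorem Ab.le_pCoreOf_of_cent (h : Ab p G) {L : Subgroup G} (hs : Group.IsSolvable L) {a : G}
    (haL : a ∈ L) (ha : ¬ p ∣ orderOf a) {V : Subgroup G} (hV : IsPGroup p V) (hVL : V ≤ L)
    (hVa : V ≤ centralizer {a}) (hn : L ⊓ centralizer {a} ≤ normalizer (V : Set G)) :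
    V ≤ Cfsg.pCoreOf p L := by
  haveI := hs
  have key := (h.subgroup L).le_pCore_of_cent (a := ⟨a, haL⟩) (V := V.subgroupOf L)
    (by rwa [orderOf_mk])
    (hV.of_equiv (subgroupOfEquivOfLe hVL).symm)
    (fun v hv => mem_centralizer_singleton_iff.2
      (Subtype.ext (mem_centralizer_singleton_iff.1 (hVa hv))))
    (fun c hc => by
      have hc' : (c : G) ∈ normalizer (V : Set G) := hn ⟨c.2, mem_centralizer_singleton_iff.2
        (congrArg Subtype.val (mem_centralizer_singleton_iff.1 hc))⟩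
      rw [mem_normalizer_iff] at hc' ⊢
      exact fun v => hc' v)
  intro v hv
  exact ⟨⟨v, hVL hv⟩, key hv, rfl⟩

theorem Ab.conj_mem_pCoreOf (h : Ab p G) {L : Subgroup G} (hs : Group.IsSolvable L) {a : G}
    (haL : a ∈ L) (ha : ¬ p ∣ orderOf a) {R : Subgroup G} (hR : IsPGroup p R) (hRL : R ≤ L)
    (hn : a ∈ normalizer (R : Set G)) {r : G} (hr : r ∈ R) :
    a * r * a⁻¹ * r⁻¹ ∈ Cfsg.pCoreOf p L := by
  haveI := hs
  refine ⟨_, (h.subgroup L).conj_mem_pCore (a := ⟨a, haL⟩) (R := R.subgroupOf L)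
    (r := ⟨r, hRL hr⟩) (by rwa [orderOf_mk]) (hR.of_equiv (subgroupOfEquivOfLe hRL).symm)
    ?_ hr, rfl⟩
  rw [mem_normalizer_iff] at hn ⊢
  exact fun v => hn v

theorem IsFullTwo.subgroupOf {E L : Subgroup G} (hE : IsFullTwo E) (hEL : E ≤ L) :
    IsFullTwo (E.subgroupOf L) :=
  ⟨fun x hx => Subtype.ext (hE.sq _ hx), fun x hx hc => hE.full _ (congrArg Subtype.val hx)
    fun e he => congrArg Subtype.val (hc ⟨e, hEL he⟩ he)⟩

theorem Ab.sup_pCoreOf_le_normalizer (h : Ab p G) (hp2 : p ≠ 2) {L : Subgroup G}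
    (hs : Group.IsSolvable L) {E : Subgroup G} (hE : IsFullTwo E) (hEL : E ≤ L) :
    L ≤ normalizer ((E ⊔ Cfsg.pCoreOf p L : Subgroup G) : Set G) := by
  haveI := hs
  have hn := (h.subgroup L).sup_pCore_normal hp2 (hE.subgroupOf hEL)
  have hm : (E.subgroupOf L ⊔ Cfsg.pCore p L).map L.subtype = E ⊔ Cfsg.pCoreOf p L := by
    rw [Subgroup.map_sup, map_subgroupOf_eq_of_le hEL]; rfl
  intro x hx
  rw [← hm]
  haveI := hn
  refine Subgroup.le_normalizer_map L.subtype ⟨⟨x, hx⟩, ?_, rfl⟩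
  rw [normalizer_eq_top]; trivial

theorem Ab.le_pCoreOf_sup_normalizer (h : Ab p G) (hp2 : p ≠ 2) {L : Subgroup G}
    (hs : Group.IsSolvable L) {E : Subgroup G} (hE : IsFullTwo E) (hEL : E ≤ L) :
    L ≤ Cfsg.pCoreOf p L ⊔ (L ⊓ normalizer (E : Set G)) := by
  haveI := hs
  have ht := (h.subgroup L).pCore_sup_normalizer hp2 (hE.subgroupOf hEL)
  intro x hx
  have : (⟨x, hx⟩ : L) ∈ Cfsg.pCore p L ⊔ normalizer ((E.subgroupOf L : Subgroup L) : Set L) := by
    rw [ht]; trivial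
  have h2 : (⟨x, hx⟩ : L).1 ∈ (Cfsg.pCore p L ⊔ normalizer ((E.subgroupOf L : Subgroup L) : Set L)).map
      L.subtype := ⟨_, this, rfl⟩
  rw [Subgroup.map_sup] at h2
  have hle : (normalizer ((E.subgroupOf L : Subgroup L) : Set L)).map L.subtype ≤
      L ⊓ normalizer (E : Set G) := ?_
  · exact (sup_le_sup le_rfl hle) h2
  rintro _ ⟨c, hc, rfl⟩
  refine ⟨c.2, mem_normalizer_iff.2 fun e => ?_⟩
  constructor
  · intro he
    exact ((mem_normalizer_iff.1 hc) ⟨e, hEL he⟩).1 he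
  · intro he
    have heL : e ∈ L := by
      have := L.mul_mem (L.mul_mem (L.inv_mem c.2) (hEL he)) c.2
      simpa [mul_assoc] using this
    exact ((mem_normalizer_iff.1 hc) ⟨e, heL⟩).2 he

end Ambient

end Cfsg.Agent.OddPre.PPrimeAbelian
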