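import Cfsg.Agent.OddPre.PPrimeAbelian.Maximal

/-!
# Case A: the maximal subgroup is `N(E)`
-/

set_option autoImplicit false

namespace Cfsg.Agent.OddPre.PPrimeAbelian

open Subgroup

variable {G : Type*} [Group G]

theorem inv_eq_of_sq {u : G} (hu : u ^ 2 = 1) : u⁻¹ = u :=
  (eq_inv_of_mul_eq_one_left (by rwa [← pow_two])).symm

/-- An involution acting without fixed points on a finite group inverts it. -/
theorem inverted_of_fpf [Finite G] {u : G} (hu : u ^ 2 = 1) {C : Subgroup G}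
    (hn : u ∈ normalizer (C : Set G)) (hfix : ∀ y ∈ C, Commute u y → y = 1) {y : G} (hy : y ∈ C) :
    u * y * u = y⁻¹ := by
  have hu' := inv_eq_of_sq hu
  have huu : u * u = 1 := by rw [← pow_two, hu]
  have hmem : ∀ z ∈ C, u * z * u ∈ C := fun z hz => by
    have := (mem_normalizer_iff.1 hn z).1 hz
    rwa [hu'] at this
  let f : C → C := fun z => ⟨(z : G)⁻¹ * (u * z * u), mul_mem (inv_mem z.2) (hmem z z.2)⟩
  have hf : Function.Injective f := by
    intro a b hab
    have he : (a : G)⁻¹ * (u * a * u) = (b : G)⁻¹ * (u * b * u) := congrArg Subtype.val hab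
    refine Subtype.ext (mul_inv_eq_one.1 (hfix ((a : G) * (b : G)⁻¹)
      (mul_mem a.2 (inv_mem b.2)) ?_))
    show u * ((a : G) * (b : G)⁻¹) = (a : G) * (b : G)⁻¹ * u
    calc u * ((a : G) * (b : G)⁻¹)
        = (a : G) * ((a : G)⁻¹ * (u * a * u)) * (u⁻¹ * (b : G)⁻¹) := by group
      _ = (a : G) * ((b : G)⁻¹ * (u * b * u)) * (u⁻¹ * (b : G)⁻¹) := by rw [he]
      _ = (a : G) * (b : G)⁻¹ * u := by group
  obtain ⟨z, hz⟩ := (Finite.injective_iff_surjective.1 hf) ⟨y, hy⟩
  have hz' : (z : G)⁻¹ * (u * z * u) = y := congrArg Subtype.val hz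
  rw [← hz']
  calc u * ((z : G)⁻¹ * (u * z * u)) * u = u * (z : G)⁻¹ * u * z * (u * u) := by group
    _ = (u * (z : G) * u)⁻¹ * z := by rw [huu, mul_one, mul_inv_rev, mul_inv_rev, hu']; group
    _ = ((z : G)⁻¹ * (u * z * u))⁻¹ := by group

variable [Finite G] {p : ℕ} [hp : Fact p.Prime] {E M : Subgroup G}

/-- `x` is inverted by the involution `s` without commuting with it. -/
structure Real (s x : G) : Prop where
  conj : s * x * s = x⁻¹
  ne : ¬ Commute s x

omit [Finite G] in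
theorem Real.ne_one {s x : G} (hr : Real s x) : x ≠ 1 := fun hh => hr.ne (hh ▸ Commute.one_right s)

theorem Max.inv_mem_E (h : Max p E M) (hMN : M ≤ normalizer (E : Set G)) {t : G} (htM : t ∈ M)
    (ht : t ^ 2 = 1) : t ∈ E := by
  obtain ⟨m, hm, hmt⟩ := h.conj_mem_E htM ht
  exact (mem_normalizer_iff.1 (hMN hm) t).2 hmt

theorem Max.commute_E (h : Max p E M) (hMN : M ≤ normalizer (E : Set G)) {a y b : G} (ha : a ∈ E)
    (ha1 : a ≠ 1) (hy : Commute y a) (hb : b ∈ E) : Commute y b :=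
  h.regular (hMN (h.cent_le a ha ha1 (mem_centralizer_singleton_iff.2 hy.eq))) ha ha1 hy hb

theorem Max.mem_of_commute (h : Max p E M) {y : G} (hy1 : y ≠ 1) (hy : ∀ b ∈ E, Commute y b)
    {x : G} (hx : Commute x y) : x ∈ M :=
  h.uniq (h.setting.crit.centralizer_ne_top hy1)
    (fun b hb => mem_centralizer_singleton_iff.2 (hy b hb).eq.symm)
    (mem_centralizer_singleton_iff.2 hx.eq)

theorem mem_normalizer_zpowers_of_conj {u x : G} (h : u * x * u⁻¹ ∈ zpowers x) :
    u ∈ normalizer (zpowers x : Set G) := by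
  refine Subgroup.mem_normalizer_fintype fun y hy => ?_
  obtain ⟨i, rfl⟩ := hy
  show u * x ^ i * u⁻¹ ∈ zpowers x
  rw [← conj_zpow]
  exact zpow_mem h i

section

variable {s : G}

theorem Real.sq {x : G} (hr : Real s x) (hs : s ^ 2 = 1) : (s * x) ^ 2 = 1 := by
  rw [pow_two, show s * x * (s * x) = s * x * s * x by group, hr.conj, inv_mul_cancel]

theorem Max.no_inv_commute (h : Max p E M) (hMN : M ≤ normalizer (E : Set G)) (hs : s ∈ E)
    (hs1 : s ≠ 1) {x : G} (hr : Real s x) {u : G} (hu : orderOf u = 2) (hux : Commute u x) :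
    False := by
  have hs2 := h.setting.full.sq s hs
  have hsi := inv_eq_of_sq hs2
  obtain ⟨g, hg⟩ := h.one_class hs hs1 hu
  have hxs : Commute (g⁻¹ * x * g) s := by
    show g⁻¹ * x * g * s = s * (g⁻¹ * x * g)
    calc g⁻¹ * x * g * s = g⁻¹ * (x * (g * s * g⁻¹)) * g := by group
      _ = g⁻¹ * (x * u) * g := by rw [hg]
      _ = g⁻¹ * (u * x) * g := by rw [hux.eq]
      _ = s * (g⁻¹ * x * g) := by rw [← hg]; group
  have hxE := fun b hb => h.commute_E hMN hs hs1 hxs (b := b) hb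
  have hN : normalizer (zpowers x : Set G) ≠ ⊤ :=
    h.setting.crit.normalizer_ne_top (fun hb => hr.ne_one (mem_bot.1 (hb ▸ mem_zpowers x)))
      (h.setting.crit.zpowers_ne_top x)
  have hE : ∀ e ∈ E, g * e * g⁻¹ ∈ normalizer (zpowers x : Set G) := fun e he => by
    refine mem_normalizer_zpowers_of_conj ?_
    have : g * e * g⁻¹ * x * (g * e * g⁻¹)⁻¹ = x := by
      calc g * e * g⁻¹ * x * (g * e * g⁻¹)⁻¹ = g * (e * (g⁻¹ * x * g)) * e⁻¹ * g⁻¹ := by group
        _ = g * (g⁻¹ * x * g * e) * e⁻¹ * g⁻¹ := by rw [(hxE e he).eq]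
        _ = x := by group
    rw [this]; exact mem_zpowers x
  have hsN : s ∈ normalizer (zpowers x : Set G) := mem_normalizer_zpowers_of_conj (by
    rw [hsi, hr.conj]; exact inv_mem (mem_zpowers x))
  have htN : s * x ∈ normalizer (zpowers x : Set G) :=
    mul_mem hsN (Subgroup.le_normalizer (mem_zpowers x))
  have h1 := h.inv_mem_E hMN (h.uniq_conj hN hE hsN) (by
    rw [show g⁻¹ * s * g = g⁻¹ * s * g⁻¹⁻¹ by group, conj_pow, hs2]; group)
  have h2 := h.inv_mem_E hMN (h.uniq_conj hN hE htN) (by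
    rw [show g⁻¹ * (s * x) * g = g⁻¹ * (s * x) * g⁻¹⁻¹ by group, conj_pow, hr.sq hs2]; group)
  have h3 := h.setting.full.comm h1 h2
  apply hr.ne
  have h4 : s * (s * x) = s * x * s := by
    calc s * (s * x) = g * (g⁻¹ * s * g * (g⁻¹ * (s * x) * g)) * g⁻¹ := by group
      _ = g * (g⁻¹ * (s * x) * g * (g⁻¹ * s * g)) * g⁻¹ := by rw [h3]
      _ = s * x * s := by group
  exact mul_left_cancel (h4.trans (mul_assoc s x s))

theorem Max.real_pPower (h : Max p E M) (hMN : M ≤ normalizer (E : Set G)) (hs : s ∈ E)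
    (hs1 : s ≠ 1) {x : G} (hr : Real s x) : ∃ k : ℕ, x ^ p ^ k = 1 := by
  refine ⟨(orderOf x).factorization p, ?_⟩
  by_contra hne
  set x' := x ^ p ^ (orderOf x).factorization p with hx'
  have hord : ¬ p ∣ orderOf x' := by
    rw [hx', orderOf_pow' _ (pow_ne_zero _ hp.out.ne_zero),
      Nat.gcd_eq_right (Nat.ordProj_dvd _ p)]
    exact Nat.not_dvd_ordCompl hp.out (orderOf_pos x).ne'
  have hsi := inv_eq_of_sq (h.setting.full.sq s hs)
  have hconj : s * x' * s⁻¹ = x'⁻¹ := by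
    rw [hx', ← conj_pow, hsi, hr.conj, inv_pow]
  set N := normalizer (zpowers x' : Set G) with hN
  have hsN : s ∈ N := mem_normalizer_zpowers_of_conj (by
    rw [hconj]; exact inv_mem (mem_zpowers x'))
  have hxN : x' ∈ N := Subgroup.le_normalizer (mem_zpowers x')
  haveI : ((zpowers x').subgroupOf N).Normal := normal_in_normalizer
  have hA : ¬ p ∣ Nat.card ↥((zpowers x').subgroupOf N) := by
    rw [Nat.card_congr (subgroupOfEquivOfLe Subgroup.le_normalizer).toEquiv]
    exact not_dvd_card_zpowers hord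
  have hB : ¬ p ∣ Nat.card ↥((zpowers s).subgroupOf N) := by
    rw [Nat.card_congr (subgroupOfEquivOfLe (zpowers_le.2 hsN)).toEquiv]
    exact not_dvd_card_zpowers (h.setting.not_dvd_orderOf hs)
  have hc : s * x' = x' * s := congrArg Subtype.val ((h.setting.crit.ab.subgroup N) _
    (not_dvd_card_sup hB hA) ⟨s, hsN⟩ (mem_sup_left (mem_zpowers s)) ⟨x', hxN⟩
    (mem_sup_right (mem_zpowers x')))
  rw [hc, mul_inv_cancel_right] at hconj
  refine h.no_inv_commute hMN hs hs1 hr (u := x') (orderOf_eq_prime ?_ hne)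
    ((Commute.refl x).pow_left _)
  rw [pow_two]
  exact mul_eq_one_iff_eq_inv.2 hconj

theorem Max.real_fpf (h : Max p E M) (hMN : M ≤ normalizer (E : Set G)) (hs : s ∈ E)
    (hs1 : s ≠ 1) {x : G} (hr : Real s x) {y : G} (hyx : Commute y x) (hys : Commute s y) :
    y = 1 := by
  by_contra hy1
  have hs2 := h.setting.full.sq s hs
  have hsi := inv_eq_of_sq hs2
  have hxM : x ∈ M := h.mem_of_commute hy1 (fun b hb => h.commute_E hMN hs hs1 hys.symm hb) hyx.symm
  have h1 : x * s * x⁻¹ ∈ E := (mem_normalizer_iff.1 (hMN hxM) s).1 hs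
  have h2 : s * (x * s * x⁻¹) ∈ E := mul_mem hs h1
  have h3 : s * (x * s * x⁻¹) = (x ^ 2)⁻¹ := by
    rw [show s * (x * s * x⁻¹) = s * x * s * x⁻¹ by group, hr.conj]; group
  have h4 := h.setting.full.sq _ h2
  rw [h3, inv_pow, inv_eq_one, ← pow_mul] at h4
  obtain ⟨k, hk⟩ := h.real_pPower hMN hs hs1 hr
  have hcop : Nat.Coprime 4 (p ^ k) := by
    refine Nat.Coprime.pow_right k ?_
    rw [show (4 : ℕ) = 2 ^ 2 by norm_num]
    exact Nat.Coprime.pow_left 2 ((Nat.coprime_primes Nat.prime_two hp.out).2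
      (fun e => h.setting.two e.symm))
  exact hr.ne_one (orderOf_eq_one_iff.1 (Nat.eq_one_of_dvd_coprimes hcop
    (orderOf_dvd_of_pow_eq_one h4) (orderOf_dvd_of_pow_eq_one hk)))

theorem Max.real_inverted (h : Max p E M) (hMN : M ≤ normalizer (E : Set G)) (hs : s ∈ E)
    (hs1 : s ≠ 1) {x : G} (hr : Real s x) {y : G} (hy : y ∈ centralizer {x}) :
    s * y * s = y⁻¹ := by
  have hs2 := h.setting.full.sq s hs
  have hsi := inv_eq_of_sq hs2
  refine inverted_of_fpf hs2 (Subgroup.mem_normalizer_fintype fun z hz => ?_)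
    (fun z hz hsz => h.real_fpf hMN hs hs1 hr (mem_centralizer_singleton_iff.1 hz) hsz) hy
  refine mem_centralizer_singleton_iff.2 ?_
  have hsx : s * x⁻¹ * s = x := by
    have := congrArg Inv.inv hr.conj
    rwa [mul_inv_rev, mul_inv_rev, inv_inv, hsi, ← mul_assoc] at this
  rw [hsi]
  calc s * z * s * x = s * z * s * (s * x⁻¹ * s) := by rw [hsx]
    _ = s * (z * x⁻¹) * s := by rw [show s * z * s * (s * x⁻¹ * s) = s * z * (s * s) * x⁻¹ * s by group,
        ← pow_two, hs2, mul_one]; group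
    _ = s * (x⁻¹ * z) * s := by
        rw [((show Commute z x from mem_centralizer_singleton_iff.1 hz).inv_right).eq]
    _ = s * x⁻¹ * s * (s * z * s) := by
        rw [show s * x⁻¹ * s * (s * z * s) = s * x⁻¹ * (s * s) * z * s by group,
          ← pow_two, hs2, mul_one]; group
    _ = x * (s * z * s) := by rw [hsx]

theorem Max.real_comm (h : Max p E M) (hMN : M ≤ normalizer (E : Set G)) (hs : s ∈ E)
    (hs1 : s ≠ 1) {x : G} (hr : Real s x) {y z : G} (hy : y ∈ centralizer {x})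
    (hz : z ∈ centralizer {x}) : y * z = z * y := by
  have hss : s * s = 1 := by rw [← pow_two]; exact h.setting.full.sq s hs
  have h1 := h.real_inverted hMN hs hs1 hr hy
  have h2 := h.real_inverted hMN hs hs1 hr hz
  have h3 := h.real_inverted hMN hs hs1 hr (mul_mem hy hz)
  have : (y * z)⁻¹ = y⁻¹ * z⁻¹ := by
    rw [← h1, ← h2, ← h3, show s * y * s * (s * z * s) = s * y * (s * s) * z * s by group, hss,
      mul_one, mul_assoc s y z]
  rw [← mul_inv_rev] at this
  exact inv_injective this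

theorem Max.real_of_mem (h : Max p E M) (hMN : M ≤ normalizer (E : Set G)) (hs : s ∈ E)
    (hs1 : s ≠ 1) {x : G} (hr : Real s x) {r : G} (hrx : r ∈ centralizer {x}) (hr1 : r ≠ 1) :
    Real s r :=
  ⟨h.real_inverted hMN hs hs1 hr hrx,
    fun hc => hr1 (h.real_fpf hMN hs hs1 hr (mem_centralizer_singleton_iff.1 hrx) hc)⟩

theorem Max.real_centralizer_eq (h : Max p E M) (hMN : M ≤ normalizer (E : Set G)) (hs : s ∈ E)
    (hs1 : s ≠ 1) {x : G} (hr : Real s x) {r : G} (hrx : r ∈ centralizer {x}) (hr1 : r ≠ 1) :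
    centralizer {r} = centralizer {x} := by
  refine le_antisymm (fun y hy => mem_centralizer_singleton_iff.2 ?_)
    fun y hy => mem_centralizer_singleton_iff.2 (h.real_comm hMN hs hs1 hr hy hrx)
  exact h.real_comm hMN hs hs1 (h.real_of_mem hMN hs hs1 hr hrx hr1) hy
    (mem_centralizer_singleton_iff.2 (mem_centralizer_singleton_iff.1 hrx).symm)

theorem Max.real_isPGroup (h : Max p E M) (hMN : M ≤ normalizer (E : Set G)) (hs : s ∈ E)
    (hs1 : s ≠ 1) {x : G} (hr : Real s x) : IsPGroup p ↥(centralizer {x}) := fun ⟨r, hrx⟩ => by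
  by_cases hr1 : r = 1
  · exact ⟨0, Subtype.ext (by simp [hr1])⟩
  obtain ⟨k, hk⟩ := h.real_pPower hMN hs hs1 (h.real_of_mem hMN hs hs1 hr hrx hr1)
  exact ⟨k, Subtype.ext hk⟩

theorem Max.real_sylow (h : Max p E M) (hMN : M ≤ normalizer (E : Set G)) (hs : s ∈ E)
    (hs1 : s ≠ 1) {x : G} (hr : Real s x) : ∃ P : Sylow p G, (P : Subgroup G) = centralizer {x} := by
  obtain ⟨P, hP⟩ := (h.real_isPGroup hMN hs hs1 hr).exists_le_sylow
  refine ⟨P, le_antisymm ?_ hP⟩
  have hxP : x ∈ (P : Subgroup G) := hP (mem_centralizer_singleton_iff.2 rfl)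
  haveI : Nontrivial (P : Subgroup G) :=
    ⟨⟨⟨x, hxP⟩, 1, fun he => hr.ne_one (congrArg Subtype.val he)⟩⟩
  haveI := P.2.center_nontrivial
  obtain ⟨⟨⟨z, hzP⟩, hzc⟩, hz1⟩ := exists_ne (1 : center (P : Subgroup G))
  have hzx : z ∈ centralizer {x} := mem_centralizer_singleton_iff.2
    (congrArg Subtype.val (mem_center_iff.1 hzc ⟨x, hxP⟩)).symm
  have hz1' : z ≠ 1 := fun hh => hz1 (Subtype.ext (Subtype.ext hh))
  rw [← h.real_centralizer_eq hMN hs hs1 hr hzx hz1']
  exact fun w hw => mem_centralizer_singleton_iff.2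
    (congrArg Subtype.val (mem_center_iff.1 hzc ⟨w, hw⟩))

theorem Max.inv_of_normalizer (h : Max p E M) (hMN : M ≤ normalizer (E : Set G)) (hs : s ∈ E)
    (hs1 : s ≠ 1) {x : G} (hr : Real s x) {u : G} (hu : orderOf u = 2)
    (hn : u ∈ normalizer (centralizer {x} : Set G)) : s * u ∈ centralizer {x} := by
  have hu2 : u ^ 2 = 1 := hu ▸ pow_orderOf_eq_one u
  have hinv : u * x * u = x⁻¹ := by
    refine inverted_of_fpf hu2 hn (fun y hy huy => ?_) (mem_centralizer_singleton_iff.2 rfl)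
    by_contra hy1
    exact h.no_inv_commute hMN hs hs1 (h.real_of_mem hMN hs hs1 hr hy hy1) hu huy
  have hss : s * s = 1 := by rw [← pow_two]; exact h.setting.full.sq s hs
  have hsx : s * x⁻¹ * s = x := by
    have := congrArg Inv.inv hr.conj
    rwa [mul_inv_rev, mul_inv_rev, inv_inv, inv_eq_of_sq (h.setting.full.sq s hs), ← mul_assoc]
      at this
  refine mem_centralizer_singleton_iff.2 ?_
  calc s * u * x = s * (u * x * u) * u⁻¹ := by group
    _ = s * x⁻¹ * (s * s) * u⁻¹ := by rw [hinv, hss, mul_one]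
    _ = (s * x⁻¹ * s) * s * u⁻¹ := by group
    _ = x * s * u⁻¹ := by rw [hsx]
    _ = x * (s * u) := by rw [inv_eq_of_sq hu2, mul_assoc]

end

/-- Case A cannot occur. -/
theorem Max.caseA_false (h : Max p E M) (hMN : M ≤ normalizer (E : Set G))
    (hpG : p ∣ Nat.card G) : False := by
  classical
  obtain ⟨s, hs, hs1⟩ := Signalizer.exists_ne_one_of_le_card
    (A := E) (lt_of_lt_of_le (by norm_num) h.setting.eight)
  have hs2 := h.setting.full.sq s hs
  have hso : orderOf s = 2 := orderOf_eq_prime hs2 hs1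
  have hsi := inv_eq_of_sq hs2
  obtain ⟨x, hr⟩ : ∃ x, Real s x := by
    obtain ⟨i, hi, hiM⟩ := h.exists_not_mem
    have hi2 : i ^ 2 = 1 := hi ▸ pow_orderOf_eq_one i
    have hss : s * s = 1 := by rw [← pow_two, hs2]
    refine ⟨s * i, ⟨?_, fun hc => hiM (h.cent_le s hs hs1 (mem_centralizer_singleton_iff.2 ?_))⟩⟩
    · rw [show s * (s * i) * s = s * s * i * s by group, hss, one_mul, mul_inv_rev, hsi,
        inv_eq_of_sq hi2]
    · have := hc.eq
      calc i * s = s * s * (i * s) := by rw [hss, one_mul]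
        _ = s * (s * i * s) := by group
        _ = s * (s * (s * i)) := by rw [← this]
        _ = s * i := by rw [← mul_assoc s s, hss, one_mul]
  set R := centralizer ({x} : Set G) with hR
  set N := normalizer (R : Set G) with hN
  have hRinv : ∀ r ∈ R, s * r * s = r⁻¹ := fun r hrR => h.real_inverted hMN hs hs1 hr hrR
  have hxR : x ∈ R := mem_centralizer_singleton_iff.2 rfl
  have hsR : s ∉ R := fun hh => hr.ne (mem_centralizer_singleton_iff.1 hh)
  have hRodd : ∀ r ∈ R, r ≠ 1 → r ^ 2 ≠ 1 := fun r hrR hr1 hr2 =>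
    h.no_inv_commute hMN hs hs1 hr (orderOf_eq_prime hr2 hr1) (mem_centralizer_singleton_iff.1 hrR)
  obtain ⟨P, hP⟩ := h.real_sylow hMN hs hs1 hr
  have hTI : ∀ g r, r ∈ R → r ≠ 1 → g * r * g⁻¹ ∈ R → g ∈ N := by
    intro g r hrR hr1 hg
    have hg1 : g * r * g⁻¹ ≠ 1 := fun hh => hr1 (conj_eq_one_iff.1 hh)
    have e1 := h.real_centralizer_eq hMN hs hs1 hr hrR hr1
    have e2 := h.real_centralizer_eq hMN hs hs1 hr hg hg1
    refine Subgroup.mem_normalizer_fintype fun y hy => ?_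
    show g * y * g⁻¹ ∈ R
    rw [SetLike.mem_coe, hR, ← e1, mem_centralizer_singleton_iff] at hy
    rw [hR, ← e2, mem_centralizer_singleton_iff]
    calc g * y * g⁻¹ * (g * r * g⁻¹) = g * (y * r) * g⁻¹ := by group
      _ = g * (r * y) * g⁻¹ := by rw [hy]
      _ = g * r * g⁻¹ * (g * y * g⁻¹) := by group
  have hK : ¬ p ∣ Nat.card (centralizer {s}) := by
    intro hd
    obtain ⟨⟨y, hys⟩, hy⟩ := exists_prime_orderOf_dvd_card' p hd
    rw [orderOf_mk] at hy
    have hz : IsPGroup p (zpowers y) := IsPGroup.of_card (n := 1) (by rw [Nat.card_zpowers, hy, pow_one])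
    obtain ⟨Q, hQ⟩ := hz.exists_le_sylow
    obtain ⟨g, hg⟩ := MulAction.exists_smul_eq G Q P
    have hyR : g * y * g⁻¹ ∈ R := by
      rw [hR, ← hP, ← hg, Sylow.coe_subgroup_smul, mem_pointwise_smul_iff_inv_smul_mem]
      simpa [MulAut.smul_def, mul_assoc] using hQ (mem_zpowers y)
    have hy1 : g * y * g⁻¹ ≠ 1 := fun hh => by
      rw [conj_eq_one_iff.1 hh, orderOf_one] at hy
      exact hp.out.one_lt.ne hy
    refine h.no_inv_commute hMN hs hs1 (h.real_of_mem hMN hs hs1 hr hyR hy1)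
      (u := g * s * g⁻¹) (by rw [TwoFusion.orderOf_conj']; exact hso) ?_
    show g * s * g⁻¹ * (g * y * g⁻¹) = g * y * g⁻¹ * (g * s * g⁻¹)
    calc g * s * g⁻¹ * (g * y * g⁻¹) = g * (s * y) * g⁻¹ := by group
      _ = g * (y * s) * g⁻¹ := by rw [mem_centralizer_singleton_iff.1 hys]
      _ = g * y * g⁻¹ * (g * s * g⁻¹) := by group
  -- the involutions
  let I := {u : G // orderOf u = 2}
  have hnI : Nat.card I * Nat.card (centralizer {s}) = Nat.card G := by
    let f : G ⧸ centralizer {s} → I := Quotient.lift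
      (fun g : G => (⟨g * s * g⁻¹, (TwoFusion.orderOf_conj' g s).trans hso⟩ : I))
      (fun g g' hgg => by
        have hmem := mem_centralizer_singleton_iff.1 (QuotientGroup.leftRel_apply.1 hgg)
        apply Subtype.ext
        show g * s * g⁻¹ = g' * s * g'⁻¹
        calc g * s * g⁻¹ = g * (s * (g⁻¹ * g')) * g'⁻¹ := by group
          _ = g * (g⁻¹ * g' * s) * g'⁻¹ := by rw [hmem]
          _ = g' * s * g'⁻¹ := by group)
    have hf : Function.Bijective f := by
      constructor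
      · intro a b
        refine Quotient.inductionOn₂ a b fun g g' hh => Quotient.sound ?_
        have he : g * s * g⁻¹ = g' * s * g'⁻¹ := congrArg Subtype.val hh
        refine QuotientGroup.leftRel_apply.2 (mem_centralizer_singleton_iff.2 ?_)
        calc g⁻¹ * g' * s = g⁻¹ * (g' * s * g'⁻¹) * g' := by group
          _ = g⁻¹ * (g * s * g⁻¹) * g' := by rw [he]
          _ = s * (g⁻¹ * g') := by group
      · rintro ⟨u, hu⟩
        obtain ⟨g, hg⟩ := h.one_class hs hs1 hu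
        exact ⟨QuotientGroup.mk g, Subtype.ext hg⟩
    rw [← Nat.card_congr (Equiv.ofBijective f hf)]
    exact (Subgroup.card_eq_card_quotient_mul_card_subgroup _).symm
  have hcomm : Nat.card {u : I // Commute s u.1} = p := by
    haveI := Fintype.ofFinite E
    have e : {u : I // Commute s u.1} ≃ {e : E // e ≠ 1} :=
      { toFun := fun u => ⟨⟨u.1.1, h.inv_mem_E hMN
          (h.cent_le s hs hs1 (mem_centralizer_singleton_iff.2 u.2.eq.symm))
          (orderOf_dvd_iff_pow_eq_one.1 (dvd_of_eq u.1.2))⟩, fun hh => by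
            have h0 : u.1.1 = 1 := congrArg Subtype.val hh
            have := u.1.2
            rw [h0, orderOf_one] at this
            omega⟩
        invFun := fun e => ⟨⟨e.1.1, orderOf_eq_prime (h.setting.full.sq _ e.1.2)
          (fun hh => e.2 (Subtype.ext hh))⟩, h.setting.full.comm hs e.1.2⟩
        left_inv := fun _ => rfl
        right_inv := fun _ => rfl }
    rw [Nat.card_congr e, Nat.card_eq_fintype_card, Fintype.card_subtype_compl,
      Fintype.card_subtype_eq, ← Nat.card_eq_fintype_card, h.card_E, Nat.add_sub_cancel]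
  set m := Nat.card {u : I // ¬ Commute s u.1} with hm
  have hsum : Nat.card I = p + m := by
    rw [← Nat.card_congr (Equiv.sumCompl fun u : I => Commute s u.1), Nat.card_sum, hcomm]
  let T := {q : I × I // ¬ Commute q.1.1 q.2.1}
  have hT : Nat.card T = Nat.card I * m := by
    haveI := Fintype.ofFinite I
    have e : T ≃ Σ u : I, {v : I // ¬ Commute u.1 v.1} :=
      { toFun := fun q => ⟨q.1.1, q.1.2, q.2⟩
        invFun := fun q => ⟨(q.1, q.2.1), q.2.2⟩
        left_inv := fun _ => rfl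
        right_inv := fun _ => rfl }
    rw [Nat.card_congr e, Nat.card_sigma]
    refine (Finset.sum_eq_card_nsmul (s := Finset.univ) (b := m) fun u _ => ?_).trans ?_
    · obtain ⟨g, hg⟩ := h.one_class hs hs1 u.2
      let c : I ≃ I := (MulAut.conj g).toEquiv.subtypeEquiv fun a => by
        show orderOf a = 2 ↔ orderOf (g * a * g⁻¹) = 2
        rw [TwoFusion.orderOf_conj']
      refine (Nat.card_congr (c.subtypeEquiv fun v => not_congr ?_)).symm
      show Commute s v.1 ↔ Commute u.1 (g * v.1 * g⁻¹)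
      rw [← hg]
      constructor
      · intro hc
        show g * s * g⁻¹ * (g * v.1 * g⁻¹) = g * v.1 * g⁻¹ * (g * s * g⁻¹)
        calc g * s * g⁻¹ * (g * v.1 * g⁻¹) = g * (s * v.1) * g⁻¹ := by group
          _ = g * (v.1 * s) * g⁻¹ := by rw [hc.eq]
          _ = g * v.1 * g⁻¹ * (g * s * g⁻¹) := by group
      · intro hc
        have h' : g * s * g⁻¹ * (g * v.1 * g⁻¹) = g * v.1 * g⁻¹ * (g * s * g⁻¹) := hc
        show s * v.1 = v.1 * s
        calc s * v.1 = g⁻¹ * (g * s * g⁻¹ * (g * v.1 * g⁻¹)) * g := by group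
          _ = g⁻¹ * (g * v.1 * g⁻¹ * (g * s * g⁻¹)) * g := by rw [h']
          _ = v.1 * s := by group
    · rw [Finset.card_univ, smul_eq_mul, ← Nat.card_eq_fintype_card]
  -- the parametrization of non-commuting pairs
  have hsr : ∀ r ∈ R, orderOf (s * r) = 2 := fun r hrR => by
    refine orderOf_eq_prime ?_ fun hh => hsR ?_
    · rw [pow_two, show s * r * (s * r) = s * r * s * r by group, hRinv r hrR, inv_mul_cancel]
    · have : s = r⁻¹ := eq_inv_of_mul_eq_one_left hh
      exact this ▸ inv_mem hrR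
  have hval : ∀ r0 r : G, r0 ∈ R → r ∈ R → r ≠ 1 → ∀ g : G,
      ¬ Commute (g * (s * r0) * g⁻¹) (g * (s * r0 * r) * g⁻¹) := by
    intro r0 r hr0 hrR hr1 g hc
    have h' : g * (s * r0) * g⁻¹ * (g * (s * r0 * r) * g⁻¹)
        = g * (s * r0 * r) * g⁻¹ * (g * (s * r0) * g⁻¹) := hc
    have h'' : s * r0 * (s * r0 * r) = s * r0 * r * (s * r0) := by
      calc s * r0 * (s * r0 * r)
          = g⁻¹ * (g * (s * r0) * g⁻¹ * (g * (s * r0 * r) * g⁻¹)) * g := by group
        _ = g⁻¹ * (g * (s * r0 * r) * g⁻¹ * (g * (s * r0) * g⁻¹)) * g := by rw [h']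
        _ = s * r0 * r * (s * r0) := by group
    rw [show s * r0 * (s * r0 * r) = s * r0 * s * r0 * r by group, hRinv r0 hr0,
      inv_mul_cancel, one_mul, show s * r0 * r * (s * r0) = s * (r0 * r) * s * r0 by group,
      hRinv _ (mul_mem hr0 hrR), mul_inv_rev, inv_mul_cancel_right] at h''
    exact hRodd r hrR hr1 (by rw [pow_two]; exact mul_eq_one_iff_eq_inv.2 h'')
  let Φ : G × R × {r : R // r ≠ 1} → T := fun d =>
    ⟨(⟨d.1 * (s * d.2.1) * d.1⁻¹, (TwoFusion.orderOf_conj' _ _).trans (hsr _ d.2.1.2)⟩,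
      ⟨d.1 * (s * d.2.1 * d.2.2.1) * d.1⁻¹, (TwoFusion.orderOf_conj' _ _).trans
        (by rw [mul_assoc]; exact hsr _ (mul_mem d.2.1.2 d.2.2.1.2))⟩),
      hval _ _ d.2.1.2 d.2.2.1.2 (fun hh => d.2.2.2 (Subtype.ext hh)) d.1⟩
  have hsN : s ∈ N := Subgroup.mem_normalizer_fintype fun y hy => by
    show s * y * s⁻¹ ∈ R
    rw [hsi, hRinv y hy]
    exact inv_mem hy
  have hinvN : ∀ u, orderOf u = 2 → u ∈ N → s * u ∈ R := fun u hu hn =>
    h.inv_of_normalizer hMN hs hs1 hr hu hn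
  have hss : s * s = 1 := by rw [← pow_two, hs2]
  have hfib : ∀ d0, Nat.card {d // Φ d = Φ d0} = Nat.card N := by
    rintro ⟨g0, ⟨a0, ha0⟩, ⟨⟨b0, hb0⟩, hb01⟩⟩
    have hb1 : b0 ≠ 1 := fun hh => hb01 (Subtype.ext hh)
    -- equality of images, unfolded
    have hunf : ∀ (g : G) (a : R) (b : {r : R // r ≠ 1}),
        Φ (g, a, b) = Φ (g0, ⟨a0, ha0⟩, ⟨⟨b0, hb0⟩, hb01⟩) →
        g * (s * a.1) * g⁻¹ = g0 * (s * a0) * g0⁻¹ ∧ g * b.1.1 * g⁻¹ = g0 * b0 * g0⁻¹ := by
      intro g a b hd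
      have e1 : g * (s * a.1) * g⁻¹ = g0 * (s * a0) * g0⁻¹ :=
        congrArg (fun q : T => q.1.1.1) hd
      have e2 : g * (s * a.1 * b.1.1) * g⁻¹ = g0 * (s * a0 * b0) * g0⁻¹ :=
        congrArg (fun q : T => q.1.2.1) hd
      refine ⟨e1, ?_⟩
      calc g * b.1.1 * g⁻¹
          = (g * (s * a.1) * g⁻¹)⁻¹ * (g * (s * a.1 * b.1.1) * g⁻¹) := by group
        _ = (g0 * (s * a0) * g0⁻¹)⁻¹ * (g0 * (s * a0 * b0) * g0⁻¹) := by rw [e1, e2]
        _ = g0 * b0 * g0⁻¹ := by group
    let F : {d // Φ d = Φ (g0, ⟨a0, ha0⟩, ⟨⟨b0, hb0⟩, hb01⟩)} → N := fun d =>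
      ⟨g0⁻¹ * d.1.1, hTI _ d.1.2.2.1 d.1.2.2.1.2 (fun hh => d.1.2.2.2 (Subtype.ext hh)) (by
        have := (hunf _ _ _ d.2).2
        rw [show g0⁻¹ * d.1.1 * d.1.2.2.1.1 * (g0⁻¹ * d.1.1)⁻¹
          = g0⁻¹ * (d.1.1 * d.1.2.2.1.1 * d.1.1⁻¹) * g0 by group, this]
        simpa [mul_assoc] using hb0)⟩
    refine Nat.card_congr (Equiv.ofBijective F ⟨?_, ?_⟩)
    · rintro ⟨⟨g, a, b⟩, hd⟩ ⟨⟨g', a', b'⟩, hd'⟩ hh
      have hg : g = g' := mul_left_cancel (congrArg Subtype.val hh)
      subst hg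
      obtain ⟨e1, e2⟩ := hunf _ _ _ hd
      obtain ⟨e1', e2'⟩ := hunf _ _ _ hd'
      have ha : a = a' := Subtype.ext (mul_left_cancel (mul_left_cancel
        (mul_right_cancel (e1.trans e1'.symm))))
      have hb : b = b' := Subtype.ext (Subtype.ext (mul_left_cancel
        (mul_right_cancel (e2.trans e2'.symm))))
      subst ha hb
      rfl
    · rintro ⟨n, hn⟩
      have ha : s * (n⁻¹ * (s * a0) * n) ∈ R := by
        refine hinvN _ ?_ (mul_mem (mul_mem (inv_mem hn)
          (mul_mem hsN (Subgroup.le_normalizer ha0))) hn)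
        rw [show n⁻¹ * (s * a0) * n = n⁻¹ * (s * a0) * n⁻¹⁻¹ by group,
          TwoFusion.orderOf_conj']
        exact hsr a0 ha0
      have hb : n⁻¹ * b0 * n ∈ R := by
        have := (mem_normalizer_iff.1 (inv_mem hn) b0).1 hb0
        simpa using this
      have hb' : (⟨n⁻¹ * b0 * n, hb⟩ : R) ≠ 1 := fun hh => hb1 (by
        have h0 : n⁻¹ * b0 * n = 1 := congrArg Subtype.val hh
        calc b0 = n * (n⁻¹ * b0 * n) * n⁻¹ := by group
          _ = 1 := by rw [h0, mul_one, mul_inv_cancel])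
      refine ⟨⟨(g0 * n, ⟨_, ha⟩, ⟨⟨_, hb⟩, hb'⟩), ?_⟩, Subtype.ext (inv_mul_cancel_left g0 n)⟩
      apply Subtype.ext
      refine Prod.ext (Subtype.ext ?_) (Subtype.ext ?_)
      · show g0 * n * (s * (s * (n⁻¹ * (s * a0) * n))) * (g0 * n)⁻¹ = g0 * (s * a0) * g0⁻¹
        rw [← mul_assoc s s, hss, one_mul]; group
      · show g0 * n * (s * (s * (n⁻¹ * (s * a0) * n)) * (n⁻¹ * b0 * n)) * (g0 * n)⁻¹
          = g0 * (s * a0 * b0) * g0⁻¹
        rw [← mul_assoc s s, hss, one_mul]; group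
  have hsurj : Function.Surjective Φ := by
    rintro ⟨⟨⟨u, hu⟩, ⟨v, hv⟩⟩, huv⟩
    obtain ⟨c, hc⟩ := h.one_class hs hs1 hu
    have hu2 : u * u = 1 := by rw [← pow_two, ← hu]; exact pow_orderOf_eq_one u
    have hv2 : v * v = 1 := by rw [← pow_two, ← hv]; exact pow_orderOf_eq_one v
    have hui : u⁻¹ = u := inv_eq_of_sq (by rw [pow_two, hu2])
    have hvi : v⁻¹ = v := inv_eq_of_sq (by rw [pow_two, hv2])
    have hsu : s = c⁻¹ * u * c := by rw [← hc]; group
    have hy : Real s (c⁻¹ * (u * v) * c) := by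
      refine ⟨?_, fun hcm => huv ?_⟩
      · rw [hsu]
        calc c⁻¹ * u * c * (c⁻¹ * (u * v) * c) * (c⁻¹ * u * c)
            = c⁻¹ * (u * u * v * u) * c := by group
          _ = c⁻¹ * (v⁻¹ * u⁻¹) * c := by rw [hu2, hui, hvi, one_mul]
          _ = (c⁻¹ * (u * v) * c)⁻¹ := by group
      · have h' := hcm.eq
        rw [hsu] at h'
        have h2 : u * (u * v) = u * v * u := by
          calc u * (u * v) = c * (c⁻¹ * u * c * (c⁻¹ * (u * v) * c)) * c⁻¹ := by group
            _ = c * (c⁻¹ * (u * v) * c * (c⁻¹ * u * c)) * c⁻¹ := by rw [h']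
            _ = u * v * u := by group
        exact mul_left_cancel (h2.trans (mul_assoc u v u))
    obtain ⟨P', hP'⟩ := h.real_sylow hMN hs hs1 hy
    obtain ⟨g, hg⟩ := MulAction.exists_smul_eq G P P'
    have hmem : ∀ w, w ∈ centralizer {c⁻¹ * (u * v) * c} ↔ g⁻¹ * w * g ∈ R := fun w => by
      rw [← hP', ← hg, Sylow.coe_subgroup_smul, mem_pointwise_smul_iff_inv_smul_mem, hP]
      simp [MulAut.smul_def, hR]
    set k := c * g with hk
    have hb : k⁻¹ * (u * v) * k ∈ R := by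
      have := (hmem (c⁻¹ * (u * v) * c)).1 (mem_centralizer_singleton_iff.2 rfl)
      rwa [show k⁻¹ * (u * v) * k = g⁻¹ * (c⁻¹ * (u * v) * c) * g by rw [hk]; group]
    have hyc : ∀ {w}, w ∈ centralizer {c⁻¹ * (u * v) * c} → s * w * s = w⁻¹ := fun hw => h.real_inverted hMN hs hs1 hy hw
    have hn : g⁻¹ * s * g ∈ N := Subgroup.mem_normalizer_fintype fun y hy' => by
      have h1 : g * y * g⁻¹ ∈ centralizer {c⁻¹ * (u * v) * c} :=
        (hmem _).2 (by simpa [mul_assoc] using hy')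
      have h2 := (hmem _).1 (inv_mem h1)
      rw [← hyc h1] at h2
      show g⁻¹ * s * g * y * (g⁻¹ * s * g)⁻¹ ∈ R
      rw [show g⁻¹ * s * g * y * (g⁻¹ * s * g)⁻¹ = g⁻¹ * (s * (g * y * g⁻¹) * s⁻¹) * g by group, hsi]
      exact h2
    have hu' : k⁻¹ * u * k = g⁻¹ * s * g := by rw [hk, hsu]; group
    have ha : s * (k⁻¹ * u * k) ∈ R := by
      refine hinvN _ ?_ (hu' ▸ hn)
      rw [show k⁻¹ * u * k = k⁻¹ * u * k⁻¹⁻¹ by group, TwoFusion.orderOf_conj', hu]
    have hb1 : (⟨_, hb⟩ : R) ≠ 1 := fun hh => huv (by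
      have h0 : k⁻¹ * (u * v) * k = 1 := congrArg Subtype.val hh
      have h3 : u * v = 1 := by
        calc u * v = k * (k⁻¹ * (u * v) * k) * k⁻¹ := by group
          _ = 1 := by rw [h0, mul_one, mul_inv_cancel]
      have hev : v = u := by rw [eq_inv_of_mul_eq_one_right h3, hui]
      show u * v = v * u
      rw [hev])
    refine ⟨(k, ⟨_, ha⟩, ⟨⟨_, hb⟩, hb1⟩), ?_⟩
    apply Subtype.ext
    refine Prod.ext (Subtype.ext ?_) (Subtype.ext ?_)
    · show k * (s * (s * (k⁻¹ * u * k))) * k⁻¹ = u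
      rw [← mul_assoc s s, hss, one_mul]; group
    · show k * (s * (s * (k⁻¹ * u * k)) * (k⁻¹ * (u * v) * k)) * k⁻¹ = v
      rw [← mul_assoc s s, hss, one_mul]
      calc k * (k⁻¹ * u * k * (k⁻¹ * (u * v) * k)) * k⁻¹ = u * u * v := by group
        _ = v := by rw [hu2, one_mul]
  have hcount : Nat.card G * (Nat.card R * (Nat.card R - 1)) = Nat.card T * Nat.card N := by
    haveI := Fintype.ofFinite T
    haveI := Fintype.ofFinite R
    have h1 : Nat.card (G × R × {r : R // r ≠ 1}) = Nat.card T * Nat.card N := by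
      rw [← Nat.card_congr (Equiv.sigmaFiberEquiv Φ), Nat.card_sigma]
      refine (Finset.sum_eq_card_nsmul (s := Finset.univ) (b := Nat.card N) fun q _ => ?_).trans ?_
      · obtain ⟨d, rfl⟩ := hsurj q
        exact hfib d
      · rw [Finset.card_univ, smul_eq_mul, ← Nat.card_eq_fintype_card]
    rw [← h1, Nat.card_prod, Nat.card_prod,
      show Nat.card {r : R // r ≠ 1} = Nat.card R - 1 by
        rw [Nat.card_eq_fintype_card, Fintype.card_subtype_compl, Fintype.card_subtype_eq,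
          ← Nat.card_eq_fintype_card]]
  -- arithmetic
  obtain ⟨e, he⟩ : Nat.card R ∣ Nat.card N := Subgroup.card_dvd_of_le Subgroup.le_normalizer
  rw [hT, ← hnI, he] at hcount
  have hIpos : 0 < Nat.card I := by
    haveI : Nonempty I := ⟨⟨s, hso⟩⟩
    exact Nat.card_pos
  have hkey : Nat.card (centralizer {s}) * (Nat.card R - 1) = m * e := by
    refine Nat.eq_of_mul_eq_mul_left (Nat.mul_pos hIpos (Nat.card_pos (α := R))) ?_
    linear_combination hcount
  have hpI : p ∣ Nat.card I := by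
    rcases hp.out.dvd_mul.1 (hnI ▸ hpG) with h1 | h1
    · exact h1
    · exact absurd h1 hK
  have hpm : p ∣ m := by
    rw [hsum] at hpI
    exact (Nat.dvd_add_right dvd_rfl).1 hpI
  rcases hp.out.dvd_mul.1 (hkey ▸ hpm.mul_right e) with h1 | h1
  · exact hK h1
  · obtain ⟨j, hj⟩ := (h.real_isPGroup hMN hs hs1 hr).exists_card_eq
    rcases Nat.eq_zero_or_pos j with hj0 | hj0
    · have : R = ⊥ := eq_bot_of_card_eq R (by rw [hR, hj, hj0, pow_zero])
      exact hr.ne_one (mem_bot.1 (this ▸ hxR))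
    · have hd : p ∣ Nat.card R := by rw [hR, hj]; exact dvd_pow_self p hj0.ne'
      have hpos : 0 < Nat.card R := Nat.card_pos
      have := Nat.dvd_sub hd h1
      rw [show Nat.card R - (Nat.card R - 1) = 1 by omega, Nat.dvd_one] at this
      exact hp.out.one_lt.ne' this

end Cfsg.Agent.OddPre.PPrimeAbelian
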