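import Cfsg.Agent.OddPre.PPrimeAbelian.Maximal
import Cfsg.Agent.Stability.Action
import Cfsg.Agent.Stability.ZJ
import Cfsg.Agent.PSolv.HallHigman
import Cfsg.Agent.Transfer.Fusion
import Cfsg.Agent.S0667
import Cfsg.Agent.S3071

/-!
# Case B: the maximal subgroup is not `N(E)`
-/

set_option autoImplicit false

namespace Cfsg.Agent.OddPre.PPrimeAbelian

open Subgroup
open scoped commutatorElement

variable {G : Type*} [Group G] [Finite G] {p : ℕ} [hp : Fact p.Prime] {E M : Subgroup G}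

theorem Ab.twoGroup_comm (hab : Ab p G) (hp2 : p ≠ 2) {T : Subgroup G} (hT : IsPGroup 2 T)
    {x y : G} (hx : x ∈ T) (hy : y ∈ T) : x * y = y * x := by
  refine hab T (fun hd => ?_) x hx y hy
  haveI : Fact (Nat.Prime 2) := ⟨Nat.prime_two⟩
  obtain ⟨k, hk⟩ := hT.exists_card_eq
  rw [hk] at hd
  exact hp2 ((Nat.prime_dvd_prime_iff_eq hp.out Nat.prime_two).1 (hp.out.dvd_of_dvd_pow hd))

theorem Ab.not_sl2_section (hab : Ab p G) (hp2 : p ≠ 2) :
    ¬ ∃ (H K : Subgroup G) (hK : (K.subgroupOf H).Normal),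
      Nonempty ((H ⧸ K.subgroupOf H) ≃* Matrix.SpecialLinearGroup (Fin 2) (ZMod p)) := by
  rintro ⟨H, K, hK, ⟨e⟩⟩
  haveI : Fact (Nat.Prime 2) := ⟨Nat.prime_two⟩
  obtain ⟨i, j, hij, htwo⟩ := Stability.exists_quaternion (p := p) hp2
  let f : H →* Matrix.SpecialLinearGroup (Fin 2) (ZMod p) :=
    e.toMonoidHom.comp (QuotientGroup.mk' _)
  have hf : Function.Surjective f := e.surjective.comp QuotientGroup.mk_surjective
  set Q := Subgroup.closure ({i, j} : Set (Matrix.SpecialLinearGroup (Fin 2) (ZMod p))) with hQ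
  have hQ2 : IsPGroup 2 Q := fun z => by
    obtain ⟨k, hk⟩ := htwo z z.2
    exact ⟨k, Subtype.ext hk⟩
  obtain ⟨T⟩ : Nonempty (Sylow 2 (Q.comap f)) := inferInstance
  let g : Q.comap f →* Q := f.subgroupComap Q
  have hg : Function.Surjective g := f.subgroupComap_surjective_of_surjective Q hf
  have htop : (T : Subgroup (Q.comap f)).map g = ⊤ :=
    ((T.mapSurjective hg).3 (hQ2.to_subgroup ⊤) le_top).symm
  have hlift : ∀ z ∈ Q, ∃ t ∈ ((T : Subgroup (Q.comap f)).map (Q.comap f).subtype).map H.subtype,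
      ∃ w : H, (w : G) = t ∧ f w = z := by
    intro z hz
    obtain ⟨t, ht, hte⟩ := (htop ▸ mem_top _ : (⟨z, hz⟩ : Q) ∈ (T : Subgroup _).map g)
    exact ⟨_, ⟨t, ⟨t, ht, rfl⟩, rfl⟩, t, rfl, congrArg Subtype.val hte⟩
  obtain ⟨a, ha, w, hw, hwi⟩ := hlift i (subset_closure (by simp))
  obtain ⟨b, hb, w', hw', hwj⟩ := hlift j (subset_closure (by simp))
  refine hij ?_
  have := hab.twoGroup_comm hp2 ((T.isPGroup'.map _).map _) ha hb
  rw [← hwi, ← hwj, ← map_mul, ← map_mul]
  refine congrArg f (Subtype.ext ?_)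
  push_cast
  rw [hw, hw', this]

/-- `O_{p'}(M)` has odd order unless `M` normalizes `E`. -/
theorem Max.odd_pPrimeCore (h : Max p E M) (hMN : ¬ M ≤ normalizer (E : Set G)) :
    ¬ 2 ∣ Nat.card (Cfsg.pPrimeCore p M) := by
  intro hd
  haveI : Fact (Nat.Prime 2) := ⟨Nat.prime_two⟩
  have hE := h.setting.full
  have hE' : ¬ p ∣ Nat.card (E.subgroupOf M) := by
    rw [Nat.card_congr (subgroupOfEquivOfLe h.le_M).toEquiv]
    exact hE.not_dvd_card h.setting.two
  have hsmall : ∀ d ∈ Cfsg.pPrimeCore p M, (d : G) ^ 2 = 1 → (d : G) ∈ E := fun d hd hd2 =>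
    hE.full _ hd2 fun e he => congrArg Subtype.val ((h.setting.crit.ab.subgroup M) _
      (not_dvd_card_sup hE' Cores.not_dvd_card_pPrimeCore) ⟨e, h.le_M he⟩ (mem_sup_left he) d
      (mem_sup_right hd))
  obtain ⟨⟨⟨t, htM⟩, htD⟩, ht⟩ := exists_prime_orderOf_dvd_card' 2 hd
  rw [orderOf_mk, orderOf_mk] at ht
  have ht2 : t ^ 2 = 1 := ht ▸ pow_orderOf_eq_one t
  have ht1 : t ≠ 1 := TwoFusion.involution_ne_one ht
  have htE : t ∈ E := hsmall ⟨t, htM⟩ htD ht2
  have hall : ∀ e (he : e ∈ E), (⟨e, h.le_M he⟩ : M) ∈ Cfsg.pPrimeCore p M := by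
    intro e he
    by_cases he1 : e = 1
    · subst he1; exact one_mem _
    obtain ⟨n, hn, hne⟩ := h.transitive htE ht1 he he1
    haveI : (Cfsg.pPrimeCore p M).Normal := inferInstance
    have := (inferInstance : (Cfsg.pPrimeCore p M).Normal).conj_mem _ htD ⟨n, h.normalizer_le hn⟩
    convert this using 1
    exact Subtype.ext hne.symm
  refine hMN fun x hx => Subgroup.mem_normalizer_fintype fun e he => ?_
  exact hsmall (⟨x, hx⟩ * ⟨e, h.le_M he⟩ * ⟨x, hx⟩⁻¹)
    ((inferInstance : (Cfsg.pPrimeCore p M).Normal).conj_mem _ (hall e he) _)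
    (by push_cast; rw [conj_pow, hE.sq e he, mul_one, mul_inv_cancel])

theorem Max.zj_frattini (h : Max p E M) (P : Sylow p M) :
    Cfsg.pPrimeCore p M ⊔
      normalizer (Cfsg.centerThompsonAOf (P : Subgroup M) : Set M) = ⊤ := by
  haveI := h.setting.crit.solv M h.coatom.1
  set π := QuotientGroup.mk' (Cfsg.pPrimeCore p M) with hπ
  have hpf : Stability.PairFree p (M ⧸ Cfsg.pPrimeCore p M) :=
    Stability.pairFree_of_twoGroup_comm h.setting.two fun T hT x hx y hy =>
      ((h.setting.crit.ab.subgroup M).quotient _).twoGroup_comm h.setting.two hT hx hy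
  have hc : centralizer (Cfsg.pCore p (M ⧸ Cfsg.pPrimeCore p M) : Set (M ⧸ Cfsg.pPrimeCore p M)) ≤
      Cfsg.pCore p (M ⧸ Cfsg.pPrimeCore p M) :=
    PSolv.centralizer_pCore_le (PSolv.isPSolvable_of_isSolvable inferInstance)
      Cores.pPrimeCore_quotient_pPrimeCore_eq_bot
  have hbar : (Cfsg.centerThompsonAOf ((P : Subgroup M).map π)).Normal := by
    have h' := (Stability.abFamily p _).sInf_normal h.setting.two hc
      (fun Q _ hQ => hpf.isPStableOn h.setting.two hQ)
      (P.mapSurjective (f := π) (QuotientGroup.mk'_surjective _))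
    rw [Modules.centerThompsonAOf_eq_centralizer, ← Modules.sInf_maxAbIn_eq]
    exact h'
  have hmap : (Cfsg.centerThompsonAOf (P : Subgroup M)).map π =
      Cfsg.centerThompsonAOf ((P : Subgroup M).map π) := by
    have hinj : Function.Injective (π.comp (P : Subgroup M).subtype) := by
      rw [injective_iff_map_eq_one]
      intro x hx
      exact Subtype.ext (Tech.eq_one_of_mem_pPrimeCore_of_isPGroup P.2 x.2
        ((QuotientGroup.eq_one_iff _).1 hx))
    have h1 := Modules.map_centerThompsonAOf (f := (P : Subgroup M).subtype)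
      (Subgroup.subtype_injective _) ⊤
    have h2 := Modules.map_centerThompsonAOf hinj ⊤
    rw [← MonoidHom.range_eq_map, Subgroup.range_subtype] at h1
    rw [← Subgroup.map_map, h1, ← Subgroup.map_map, ← MonoidHom.range_eq_map,
      Subgroup.range_subtype] at h2
    exact h2
  have hN := CharTwo.map_normalizer_mk (O := Cfsg.pPrimeCore p M) Cores.pPrimeCore_coprime
    (P.2.to_le (Modules.centerThompsonAOf_le _) :
      IsPGroup p (Cfsg.centerThompsonAOf (P : Subgroup M)))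
  rw [← hπ, hmap] at hN
  haveI := hbar
  rw [Subgroup.normalizer_eq_top (Cfsg.centerThompsonAOf ((P : Subgroup M).map π))] at hN
  have h3 := congrArg (Subgroup.comap π) hN
  rw [Subgroup.comap_map_eq, hπ, QuotientGroup.ker_mk', Subgroup.comap_top, sup_comm] at h3
  exact h3

/-- Commutators of `M` centralize `E` modulo `O_p(M)`. -/
theorem Max.commutator_mem (h : Max p E M) {k : M} (hk : k ∈ commutator M) {e : G} (he : e ∈ E) :
    k * (⟨e, h.le_M he⟩ : M) * k⁻¹ * (⟨e, h.le_M he⟩ : M)⁻¹ ∈ Cfsg.pCore p M := by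
  haveI := h.setting.crit.solv M h.coatom.1
  have hsup := (h.setting.crit.ab.subgroup M).pCore_sup_normalizer h.setting.two
    (h.setting.full.subgroupOf h.le_M)
  set π := QuotientGroup.mk' (Cfsg.pCore p M) with hπ
  have hrep : ∀ x : M, ∃ n : M, (n : G) ∈ normalizer (E : Set G) ∧ π x = π n := by
    intro x
    obtain ⟨w, hw, n, hn, rfl⟩ := Subgroup.mem_sup_of_normal_left.1
      (hsup.symm ▸ mem_top x : x ∈ Cfsg.pCore p M ⊔ normalizer ((E.subgroupOf M : Subgroup M) : Set M))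
    refine ⟨n, Subgroup.mem_normalizer_fintype fun e he => ?_, ?_⟩
    · exact (mem_normalizer_iff.1 hn ⟨e, h.le_M he⟩).1 he
    · rw [map_mul, show π w = 1 from (QuotientGroup.eq_one_iff _).2 hw, one_mul]
  have hle : commutator M ≤ (centralizer {π ⟨e, h.le_M he⟩}).comap π := by
    refine Subgroup.commutator_le.2 fun x _ y _ => ?_
    obtain ⟨n, hn, hxn⟩ := hrep x
    obtain ⟨n', hn', hyn⟩ := hrep y
    show π ⁅x, y⁆ ∈ centralizer {π ⟨e, h.le_M he⟩}
    rw [mem_centralizer_singleton_iff, map_commutatorElement, hxn, hyn, ← map_commutatorElement,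
      ← map_mul, ← map_mul]
    refine congrArg π (Subtype.ext ?_)
    simp only [commutatorElement_def, Subgroup.coe_mul, InvMemClass.coe_inv]
    exact (h.commutator_commute hn hn' he).eq
  have h1 := mem_centralizer_singleton_iff.1 (hle hk)
  refine (QuotientGroup.eq_one_iff _).1 ?_
  show π (k * _ * k⁻¹ * _) = 1
  rw [map_mul, map_mul, map_mul, h1, map_inv, map_inv, mul_inv_cancel_right, mul_inv_cancel]

/-- Case B cannot occur. -/
theorem Max.caseB_false (h : Max p E M) (hMN : ¬ M ≤ normalizer (E : Set G)) : False := by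
  haveI : Fact (Nat.Prime 2) := ⟨Nat.prime_two⟩
  have hp2 := h.setting.two
  haveI := h.setting.crit.solv M h.coatom.1
  obtain ⟨P⟩ : Nonempty (Sylow p M) := inferInstance
  -- a `p`-element moving `E`
  obtain ⟨z, hz, e, he, hne⟩ := h.setting.moved
  obtain ⟨k, hk⟩ := h.setting.crit.ab.exists_pow_commute h.setting.full hp2 hz
  have hne' : ¬ Commute z e := fun hc => hne (by rw [hc.eq, mul_inv_cancel_right])
  obtain ⟨mm, hmm⟩ := Nat.ordProj_dvd (orderOf z) p
  set z₁ := z ^ mm with hz₁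
  have hmp : ¬ p ∣ mm := by
    have := Nat.not_dvd_ordCompl hp.out (orderOf_pos z).ne'
    rwa [Nat.div_eq_of_eq_mul_right (pow_pos hp.out.pos _) hmm] at this
  have hz₁ne : ¬ Commute z₁ e := fun hc => hne' (commute_of_pow_coprime hc (hk e he)
    ((hp.out.coprime_iff_not_dvd.2 hmp).symm.pow_right k))
  have hz₁M : z₁ ∈ M := h.normalizer_le (pow_mem hz _)
  have hz₁p : IsPGroup p (zpowers (⟨z₁, hz₁M⟩ : M)) := by
    intro w
    obtain ⟨i, hi⟩ := w.2
    refine ⟨(orderOf z).factorization p, Subtype.ext ?_⟩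
    show (w : M) ^ p ^ (orderOf z).factorization p = 1
    have hone : (⟨z₁, hz₁M⟩ : M) ^ p ^ (orderOf z).factorization p = 1 := by
      apply Subtype.ext
      show z₁ ^ _ = 1
      rw [hz₁, ← pow_mul, mul_comm, ← hmm, pow_orderOf_eq_one]
    rw [← hi, ← zpow_natCast, ← zpow_mul, mul_comm, zpow_mul, zpow_natCast, hone, one_zpow]
  obtain ⟨Q, hQ⟩ := hz₁p.exists_le_sylow
  obtain ⟨c, hc⟩ := MulAction.exists_smul_eq M Q P
  have hzP : c * ⟨z₁, hz₁M⟩ * c⁻¹ ∈ (P : Subgroup M) := by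
    rw [← hc, Sylow.coe_subgroup_smul, mem_pointwise_smul_iff_inv_smul_mem]
    simpa [MulAut.smul_def, mul_assoc] using hQ (mem_zpowers _)
  have hPne : (P : Subgroup M) ≠ ⊥ := fun hb => by
    rw [hb, mem_bot, conj_eq_one_iff] at hzP
    have h0 : z₁ = 1 := congrArg Subtype.val hzP
    exact hz₁ne (by rw [h0]; exact Commute.one_left e)
  -- the normalizer of `Z(J(P))`
  set Z := Cfsg.centerThompsonAOf (P : Subgroup M) with hZ
  set N' := normalizer (Z : Set M) with hN'
  have hfr := h.zj_frattini P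
  have hodd : ¬ 2 ∣ N'.index := by
    intro hd
    haveI : (Cfsg.pPrimeCore p M).Normal := inferInstance
    have h1 := Cores.card_sup_dvd_mul N' (Cfsg.pPrimeCore p M)
    rw [sup_comm, hfr, Subgroup.card_top, ← card_mul_index N'] at h1
    exact h.odd_pPrimeCore hMN (hd.trans (Nat.dvd_of_mul_dvd_mul_left Nat.card_pos h1))
  obtain ⟨T⟩ : Nonempty (Sylow 2 N') := inferInstance
  obtain ⟨S, hS⟩ := h.setting.sylow
  have hTidx : ¬ 2 ∣ ((T : Subgroup N').map N'.subtype).index := by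
    rw [index_map_subtype]
    exact fun hd => (Nat.prime_two.dvd_mul.1 hd).elim T.not_dvd_index hodd
  have hTp : IsPGroup 2 ((T : Subgroup N').map N'.subtype) := T.2.map _
  obtain ⟨m, hm⟩ := MulAction.exists_smul_eq M (S.subtype (h.sylow_le hS))
    (hTp.toSylow hTidx)
  have hconj : ∀ e' (he' : e' ∈ E), m * ⟨e', h.le_M he'⟩ * m⁻¹ ∈ N' := by
    intro e' he'
    have h1 : m * ⟨e', h.le_M he'⟩ * m⁻¹ ∈ ((hTp.toSylow hTidx : Sylow 2 M) : Subgroup M) := by
      rw [← hm, Sylow.coe_subgroup_smul, mem_pointwise_smul_iff_inv_smul_mem, Sylow.coe_subtype]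
      simpa [MulAut.smul_def, mul_assoc, mem_subgroupOf] using hS he'
    rw [IsPGroup.toSylow_coe] at h1
    exact map_subtype_le _ h1
  set P' := (P : Subgroup M).map M.subtype with hP'
  set Z' := Cfsg.centerThompsonAOf P' with hZ'
  have hZZ : Z' = Z.map M.subtype :=
    (Modules.map_centerThompsonAOf M.subtype_injective (P : Subgroup M)).symm
  set L := normalizer (Z' : Set G) with hL
  have hZp : IsPGroup p Z' := (P.2.map M.subtype).to_le (Modules.centerThompsonAOf_le _)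
  have hP'ne : P' ≠ ⊥ := fun hb =>
    hPne ((map_eq_bot_iff_of_injective _ M.subtype_injective).1 hb)
  have hLne : L ≠ ⊤ := h.setting.crit.normalizer_ne_top
    (Modules.centerThompsonAOf_ne_bot (P.2.map M.subtype) hP'ne)
    (h.setting.crit.ne_top_of_solvable (by haveI := hZp.isNilpotent; infer_instance))
  have hN'L : ∀ n : M, n ∈ N' → (n : G) ∈ L := fun n hn => by
    rw [hL, hZZ]
    exact Subgroup.le_normalizer_map _ ⟨n, hn, rfl⟩
  have hLM : L ≤ M := fun l hl => by
    have h1 := h.uniq_conj hLne (g := (m : G)) (fun e' he' => hN'L _ (hconj e' he')) hl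
    have := M.mul_mem (M.mul_mem m.2 h1) (inv_mem m.2)
    simpa [mul_assoc] using this
  -- `P'` is a Sylow subgroup of `G`
  obtain ⟨P0, hP0⟩ := (P.2.map M.subtype).exists_le_sylow
  have hP'M : P' ≤ M := map_subtype_le _
  have hPeq : P' = (P0 : Subgroup G) := by
    by_contra hneq
    haveI := P0.2.isNilpotent
    have hlt : P'.subgroupOf P0 < ⊤ := lt_top_iff_ne_top.2 fun ht =>
      hneq (le_antisymm hP0 (subgroupOf_eq_top.1 ht))
    obtain ⟨y, hy, hyn⟩ := SetLike.exists_of_lt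
      (Group.normalizerCondition_of_isNilpotent _ hlt)
    have hyN : (y : G) ∈ normalizer (P' : Set G) := Subgroup.mem_normalizer_fintype fun w hw =>
      (mem_normalizer_iff.1 hy ⟨w, hP0 hw⟩).1 hw
    have hyM : (y : G) ∈ M :=
      hLM (Modules.normalizer_le_normalizer_centerThompsonAOf P' hyN)
    have hle : P' ⊔ zpowers (y : G) ≤ M := sup_le hP'M (zpowers_le.2 hyM)
    have hQ : IsPGroup p ↥((P' ⊔ zpowers (y : G)).subgroupOf M) :=
      (P0.2.to_le (sup_le hP0 (zpowers_le.2 y.2))).of_equiv (subgroupOfEquivOfLe hle).symm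
    have hmax := P.3 hQ (fun w hw => mem_sup_left ⟨w, hw, rfl⟩)
    refine hyn ?_
    have : (⟨y, hyM⟩ : M) ∈ (P : Subgroup M) := hmax ▸ mem_sup_right (mem_zpowers _)
    exact ⟨_, this, rfl⟩
  -- focal subgroup
  have hfus : Transfer.ControlsFusion L (P0 : Subgroup G) := by
    intro x hx g hg
    obtain ⟨n, hn, hnx⟩ := (Cfsg.Agent.S3071.result hp2 P0
      (fun _ _ _ ⟨H, K, hK, _, hi⟩ => h.setting.crit.ab.not_sl2_section hp2 ⟨H, K, hK, hi⟩)
      x hx (g * x * g⁻¹) hg).1 ⟨g, rfl⟩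
    refine ⟨n, ?_, hnx⟩
    rwa [hL, hZ', hPeq]
  have hPL : (P0 : Subgroup G) ≤ L := by
    rw [hL, hZ', hPeq]
    exact Subgroup.le_normalizer.trans (Modules.normalizer_le_normalizer_centerThompsonAOf _)
  have hfoc := Transfer.ControlsFusion.commutator_inf_sylow_eq P0 hPL hfus
  have hperf : commutator G = ⊤ :=
    (h.setting.crit.eq_bot_or_top inferInstance).resolve_left fun hb =>
      h.setting.crit.ne_top_of_comm (H := (⊤ : Subgroup G))
        (fun x _ y _ => commutatorElement_eq_one_iff_mul_comm.1 (mem_bot.1 (hb ▸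
          Subgroup.commutator_mem_commutator (mem_top x) (mem_top y)))) rfl
  rw [hperf, top_inf_eq] at hfoc
  have hP0c : (P0 : Subgroup G) ≤ (commutator M).map M.subtype := by
    rw [hfoc, map_subtype_commutator]
    exact inf_le_left.trans (commutator_mono hLM hLM)
  have hz1c : (⟨z₁, hz₁M⟩ : M) ∈ commutator M := by
    have hmemP : ((c * ⟨z₁, hz₁M⟩ * c⁻¹ : M) : G) ∈ P' := ⟨_, hzP, rfl⟩
    rw [hPeq] at hmemP
    obtain ⟨w, hw, hwe⟩ := hP0c hmemP
    have hw' : w = c * ⟨z₁, hz₁M⟩ * c⁻¹ := Subtype.ext hwe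
    have := (inferInstance : (commutator M).Normal).conj_mem _ hw c⁻¹
    rw [hw'] at this
    simpa [mul_assoc] using this
  have hmem := h.commutator_mem hz1c he
  have h1 : z₁ * e * z₁⁻¹ * e⁻¹ ∈ E :=
    mul_mem ((mem_normalizer_iff.1 (pow_mem hz mm) e).1 he) (inv_mem he)
  obtain ⟨j, hj⟩ := Cores.pCore_isPGroup (p := p) (G := M) ⟨_, hmem⟩
  have hj' : (z₁ * e * z₁⁻¹ * e⁻¹) ^ p ^ j = 1 := by
    simpa using congrArg (fun w : Cfsg.pCore p M => ((w : M) : G)) hj
  have hcomm := eq_one_of_pow_of_not_dvd (h.setting.full.not_dvd_card hp2) h1 hj'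
  rw [mul_inv_eq_one, mul_inv_eq_iff_eq_mul] at hcomm
  exact hz₁ne hcomm

end Cfsg.Agent.OddPre.PPrimeAbelian
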