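import Cfsg.Agent.OddPre.PPrimeAbelian.CaseA
import Cfsg.Agent.OddPre.PPrimeAbelian.CaseB
import Cfsg.Agent.Char.Burnside
import Mathlib.GroupTheory.SchurZassenhaus

/-!
# Groups whose `p'`-subgroups are abelian of exponent dividing `p - 1` are solvable

The odd order theorem is taken as a hypothesis.
-/

set_option autoImplicit false

namespace Cfsg.Agent.OddPre.PPrimeAbelian

open Subgroup

universe u

/-- The hypothesis of the theorem. -/
def Hyp (p : ℕ) (G : Type*) [Group G] : Prop :=
  ∀ H : Subgroup G, ¬ p ∣ Nat.card H →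
    (∀ x ∈ H, ∀ y ∈ H, x * y = y * x) ∧ ∀ x ∈ H, x ^ (p - 1) = 1

theorem Hyp.subgroup {G : Type*} [Group G] {p : ℕ} (h : Hyp p G) (L : Subgroup G) : Hyp p L := by
  intro H hH
  have hc : Nat.card (H.map L.subtype) = Nat.card H :=
    (Nat.card_congr (H.equivMapOfInjective _ L.subtype_injective).toEquiv).symm
  obtain ⟨h1, h2⟩ := h (H.map L.subtype) (hc ▸ hH)
  exact ⟨fun x hx y hy => Subtype.ext (h1 _ ⟨x, hx, rfl⟩ _ ⟨y, hy, rfl⟩),
    fun x hx => Subtype.ext (h2 _ ⟨x, hx, rfl⟩)⟩

theorem not_crit {G : Type u} [Group G] [Finite G] {p : ℕ} [hp : Fact p.Prime] (hc : Crit p G)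
    (hpG : p ∣ Nat.card G) : False := by
  obtain ⟨E, hE⟩ := exists_setting hc
  obtain ⟨M, hM, hle, hcent⟩ := hE.exists_maximal
  have h : Max p E M := ⟨hE, hM, hle, hcent⟩
  by_cases hMN : M ≤ normalizer (E : Set G)
  · exact h.caseA_false hMN hpG
  · exact h.caseB_false hMN

theorem isSolvable_aux {p : ℕ} [hp : Fact p.Prime]
    (hFT : ∀ (K : Type u) [Group K] [Finite K], Odd (Nat.card K) → Group.IsSolvable K) :
    ∀ (n : ℕ) (G : Type u) [Group G] [Finite G], Nat.card G = n → Hyp p G → Group.IsSolvable G := by
  intro n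
  induction n using Nat.strong_induction_on with
  | _ n ih =>
    intro G _ _ hn h
    have hab : Ab p G := fun H hH => (h H hH).1
    have hsolv : ∀ L : Subgroup G, L ≠ ⊤ → Group.IsSolvable L := fun L hL =>
      ih _ (hn ▸ lt_of_le_of_ne (Subgroup.card_le_card_group L)
        fun e => hL (Subgroup.eq_top_of_card_eq L e)) L rfl (h.subgroup L)
    by_contra hns
    by_cases hpG : p ∣ Nat.card G
    swap
    · exact hns (Group.isSolvable_of_comm fun x y => hab ⊤ (by rwa [Subgroup.card_top]) x
        (mem_top x) y (mem_top y))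
    have hsimp : ∀ N : Subgroup G, N.Normal → N = ⊥ ∨ N = ⊤ := by
      intro N hN
      by_contra hcon
      push Not at hcon
      obtain ⟨hb, ht⟩ := hcon
      haveI := hsolv N ht
      suffices hq : Group.IsSolvable (G ⧸ N) from
        hns (Group.isSolvable_of_ker_le_range N.subtype (QuotientGroup.mk' N)
          (by rw [QuotientGroup.ker_mk', N.range_subtype]))
      have hlt : Nat.card (G ⧸ N) < n := by
        rw [← hn, Subgroup.card_eq_card_quotient_mul_card_subgroup N]
        exact lt_mul_of_one_lt_right Nat.card_pos ((one_lt_card_iff_ne_bot N).2 hb)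
      by_cases hpq : p ∣ Nat.card (G ⧸ N)
      · refine ih _ hlt _ rfl fun H hH => ?_
        have hpre : Group.IsSolvable ↥(H.comap (QuotientGroup.mk' N)) := by
          refine hsolv _ fun hh => hH ?_
          have : H = ⊤ := by
            rw [← map_comap_eq_self_of_surjective (QuotientGroup.mk'_surjective N) H, hh,
              map_top_of_surjective _ (QuotientGroup.mk'_surjective N)]
          rwa [this, Subgroup.card_top]
        obtain ⟨K, hK, rfl⟩ := exists_lift_coprime hp.out N H hH hpre
        refine ⟨?_, ?_⟩
        · rintro _ ⟨a, ha, rfl⟩ _ ⟨b, hb, rfl⟩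
          rw [← map_mul, ← map_mul, (h K hK).1 a ha b hb]
        · rintro _ ⟨a, ha, rfl⟩
          rw [← map_pow, (h K hK).2 a ha, map_one]
      · obtain ⟨P⟩ : Nonempty (Sylow p N) := inferInstance
        set P' := (P : Subgroup N).map N.subtype with hP'
        have hfr : normalizer (P' : Set G) ⊔ N = ⊤ := Sylow.normalizer_sup_eq_top P
        by_cases hnt : normalizer (P' : Set G) = ⊤
        · haveI hP'n : P'.Normal := Subgroup.normalizer_eq_top_iff.1 hnt
          have hidx : ¬ p ∣ P'.index := by
            rw [hP', index_map_subtype]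
            exact fun hd => (hp.out.dvd_mul.1 hd).elim P.not_dvd_index
              (fun h' => hpq (by rwa [Subgroup.index] at h'))
          have hPp : IsPGroup p P' := P.2.map _
          have hcop : (Nat.card P').Coprime P'.index := by
            obtain ⟨k, hk⟩ := hPp.exists_card_eq
            rw [hk]
            exact (hp.out.coprime_iff_not_dvd.2 hidx).pow_left k
          obtain ⟨C, hC⟩ := Subgroup.exists_right_complement'_of_coprime hcop
          have hCp : ¬ p ∣ Nat.card C := by rwa [hC.symm.index_eq_card] at hidx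
          have hsurj : Function.Surjective ((QuotientGroup.mk' P').comp C.subtype) := by
            intro q
            obtain ⟨g, rfl⟩ := QuotientGroup.mk'_surjective P' q
            obtain ⟨x, hx, c, hc, rfl⟩ := Subgroup.mem_sup_of_normal_left.1
              (hC.sup_eq_top.symm ▸ mem_top g : g ∈ P' ⊔ C)
            refine ⟨⟨c, hc⟩, ?_⟩
            show QuotientGroup.mk' P' c = QuotientGroup.mk' P' (x * c)
            rw [map_mul, show QuotientGroup.mk' P' x = 1 from (QuotientGroup.eq_one_iff _).2 hx,
              one_mul]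
          haveI : Group.IsSolvable C :=
            Group.isSolvable_of_comm fun x y => Subtype.ext ((h C hCp).1 x x.2 y y.2)
          haveI := Group.isSolvable_of_surjective hsurj
          haveI := hPp.isNilpotent
          exact absurd (Group.isSolvable_of_ker_le_range P'.subtype (QuotientGroup.mk' P')
            (by rw [QuotientGroup.ker_mk', P'.range_subtype])) hns
        · haveI := hsolv _ hnt
          refine Group.isSolvable_of_surjective
            (f := (QuotientGroup.mk' N).comp (normalizer (P' : Set G)).subtype) fun q => ?_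
          obtain ⟨g, rfl⟩ := QuotientGroup.mk'_surjective N q
          obtain ⟨x, hx, m, hm, rfl⟩ := Subgroup.mem_sup_of_normal_right.1
            (hfr.symm ▸ mem_top g : g ∈ normalizer (P' : Set G) ⊔ N)
          refine ⟨⟨x, hx⟩, ?_⟩
          show QuotientGroup.mk' N x = QuotientGroup.mk' N (x * m)
          rw [map_mul, show QuotientGroup.mk' N m = 1 from (QuotientGroup.eq_one_iff _).2 hm,
            mul_one]
    haveI : Nontrivial G := by
      by_contra hnt
      rw [not_nontrivial_iff_subsingleton] at hnt
      exact hns inferInstance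
    have hS : IsSimpleGroup G := ⟨hsimp⟩
    have hexp : ∀ q : ℕ, q.Prime → q ∣ Nat.card G → q = p ∨ q ∣ p - 1 := by
      intro q hq hqd
      by_cases hqp : q = p
      · exact Or.inl hqp
      right
      haveI := Fact.mk hq
      obtain ⟨x, hx⟩ := exists_prime_orderOf_dvd_card' q hqd
      have := (h (zpowers x) (by
        rw [Nat.card_zpowers, hx]
        exact fun hd => hqp ((Nat.prime_dvd_prime_iff_eq hp.out hq).1 hd).symm)).2 x (mem_zpowers x)
      rw [← hx]
      exact orderOf_dvd_of_pow_eq_one this
    by_cases hp5 : 5 ≤ p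
    · refine not_crit ⟨hp5, hab, hS, hsolv, hns, ?_⟩ hpG
      by_contra hev
      exact hns (hFT G (Nat.odd_iff.2 (by omega)))
    · have hp23 : p = 2 ∨ p = 3 := by
        have := hp.out.two_le
        have h4 : p ≠ 4 := fun e => by
          have := hp.out
          rw [e] at this
          norm_num at this
        omega
      refine hns (Char.solvable_of_card_eq_pow_mul_pow 2 3 Nat.prime_two Nat.prime_three _ rfl
        fun q hq hqd => ?_)
      rcases hexp q hq hqd with e | e
      · omega
      · rcases hp23 with e2 | e2 <;> subst e2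
        · simp at e
          exact absurd e hq.ne_one
        · exact Or.inl ((Nat.prime_dvd_prime_iff_eq hq Nat.prime_two).1 (by simpa using e))

/-- The theorem, assuming the odd order theorem. -/
theorem isSolvable_of_hyp {p : ℕ} [Fact p.Prime] {G : Type u} [Group G] [Finite G]
    (hFT : ∀ (K : Type u) [Group K] [Finite K], Odd (Nat.card K) → Group.IsSolvable K)
    (h : ∀ H : Subgroup G, (Nat.card ↥H).Coprime p →
      IsMulCommutative ↥H ∧ ∀ x ∈ H, x ^ (p - 1) = 1) : Group.IsSolvable G :=
  isSolvable_aux hFT _ G rfl fun H hH => by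
    obtain ⟨h1, h2⟩ := h H ((Fact.out (p := p.Prime)).coprime_iff_not_dvd.2 hH).symm
    exact ⟨fun x hx y hy => congrArg Subtype.val (mul_comm' (⟨x, hx⟩ : H) ⟨y, hy⟩), h2⟩

end Cfsg.Agent.OddPre.PPrimeAbelian
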