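import Cfsg.Agent.OddPre.PPrimeAbelian.Setting
import Cfsg.Agent.TwoFusion.SEBasic
import Cfsg.Agent.Invol.StronglyEmbedded

/-!
# The maximal subgroup containing every involution centralizer of `E`; strong embedding
-/

set_option autoImplicit false

namespace Cfsg.Agent.OddPre.PPrimeAbelian

open Subgroup

variable {G : Type*} [Group G] [Finite G] {p : ℕ} [hp : Fact p.Prime] {E M : Subgroup G}

theorem IsFullTwo.le_centralizer (hE : IsFullTwo E) {a : G} (ha : a ∈ E) : E ≤ centralizer {a} :=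
  fun _ hb => mem_centralizer_singleton_iff.2 (hE.comm hb ha)

theorem Setting.two (h : Setting p E) : p ≠ 2 := h.crit.p_ne_two

theorem Setting.not_dvd_orderOf (h : Setting p E) {a : G} (ha : a ∈ E) : ¬ p ∣ orderOf a :=
  fun hd => h.full.not_dvd_card h.two (hd.trans (Subgroup.orderOf_dvd_natCard E ha))

theorem Setting.two_not_dvd (h : Setting p E) {V : Subgroup G} (hV : IsPGroup p V) :
    ¬ 2 ∣ Nat.card V := by
  obtain ⟨k, hk⟩ := hV.exists_card_eq
  rw [hk]
  exact fun hd => h.two ((Nat.prime_dvd_prime_iff_eq Nat.prime_two hp.out).1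
    (Nat.prime_two.dvd_of_dvd_pow hd)).symm

/-- The signalizer functor `a ↦ O_p(C(a))`. -/
def theta (p : ℕ) (a : G) : Subgroup G := Cfsg.pCoreOf p (centralizer {a})

theorem Setting.theta_solvableSF (h : Setting p E) :
    Cfsg.IsSolvableSignalizerFunctor 2 E (theta p) := by
  refine ⟨⟨fun a _ _ => LocalP.pCoreOf_le _,
    fun a _ _ => h.two_not_dvd (LocalP.pCoreOf_isPGroup _),
    fun a ha _ b hb x hx => ?_, fun a ha ha1 b hb hb1 => ?_⟩, fun a ha ha1 => ?_⟩
  · exact (mem_normalizer_iff.1 (LocalP.le_normalizer_pCoreOf _ (h.full.le_centralizer ha hb)) x).1 hx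
  · refine h.crit.ab.le_pCoreOf_of_cent (a := a)
      (h.crit.solv _ (h.crit.centralizer_ne_top hb1))
      (h.full.le_centralizer hb ha) (h.not_dvd_orderOf ha)
      ((LocalP.pCoreOf_isPGroup _).to_le inf_le_left) inf_le_right
      (inf_le_left.trans (LocalP.pCoreOf_le _)) ?_
    intro c hc
    have h1 := LocalP.le_normalizer_pCoreOf (p := p) (centralizer {a}) hc.2
    have h2 : c ∈ normalizer ((centralizer {b} : Subgroup G) : Set G) :=
      Subgroup.le_normalizer hc.1
    rw [mem_normalizer_iff] at h1 h2 ⊢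
    exact fun x => and_congr (h1 x) (h2 x)
  · haveI := h.crit.solv _ (h.crit.centralizer_ne_top ha1)
    exact Coprime.isSolvable_of_le (LocalP.pCoreOf_le _) this

theorem Setting.exists_closure (h : Setting p E) :
    IsPGroup p ↥(Cfsg.signalizerClosure E (theta p)) := by
  haveI : Fact (Nat.Prime 2) := ⟨Nat.prime_two⟩
  have hA := h.full.elemAb
  have hA3 := h.eight
  have hθ := h.theta_solvableSF
  have hq : ∀ a ∈ E, a ≠ 1 → IsPGroup p (theta p a) := fun a _ _ => LocalP.pCoreOf_isPGroup _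
  obtain ⟨b, hb, hb1⟩ := Signalizer.exists_ne_one_of_le_card
    (A := E) (lt_of_lt_of_le (by norm_num) hA3)
  obtain ⟨P, hP, hbP⟩ := Signalizer.exists_isMaxPMember_ge
    (Signalizer.theta_mem_family hθ hb hb1) (hq b hb hb1)
  refine hP.2.1.to_le (iSup_le fun a => ?_)
  obtain ⟨a, ha, ha1⟩ := a
  obtain ⟨P', hP', haP'⟩ := Signalizer.exists_isMaxPMember_ge
    (Signalizer.theta_mem_family hθ ha ha1) (hq a ha ha1)
  obtain ⟨c, hc, hcP⟩ := Signalizer.transitivity hA hA3 hθ hP hP'
  rw [Signalizer.map_conj_eq_self_iff.2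
    (Subgroup.le_normalizer (hbP (Signalizer.signalizerInf_le hb hb1 hc)))] at hcP
  exact hcP ▸ haP'

theorem theta_conj (n a : G) {x : G} (hx : x ∈ theta p a) :
    n * x * n⁻¹ ∈ theta p (n * a * n⁻¹) := by
  have hle : (theta p a).map (MulAut.conj n).toMonoidHom ≤ theta p (n * a * n⁻¹) := by
    refine LocalP.le_pCoreOf ?_ ?_ ((LocalP.pCoreOf_isPGroup _).map _)
    · rintro _ ⟨y, hy, rfl⟩
      have h' := mem_centralizer_singleton_iff.1 (LocalP.pCoreOf_le (p := p) _ hy)
      refine mem_centralizer_singleton_iff.2 ?_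
      show n * y * n⁻¹ * (n * a * n⁻¹) = n * a * n⁻¹ * (n * y * n⁻¹)
      calc n * y * n⁻¹ * (n * a * n⁻¹) = n * (y * a) * n⁻¹ := by group
        _ = n * (a * y) * n⁻¹ := by rw [h']
        _ = n * a * n⁻¹ * (n * y * n⁻¹) := by group
    · intro c hc
      have hc' : n⁻¹ * c * n ∈ centralizer {a} := by
        refine mem_centralizer_singleton_iff.2 ?_
        calc n⁻¹ * c * n * a = n⁻¹ * (c * (n * a * n⁻¹)) * n := by group
          _ = n⁻¹ * (n * a * n⁻¹ * c) * n := by rw [mem_centralizer_singleton_iff.1 hc]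
          _ = a * (n⁻¹ * c * n) := by group
      have h1 := mem_normalizer_iff.1 (LocalP.le_normalizer_pCoreOf (p := p) _ hc')
      refine mem_normalizer_iff.2 fun y => ?_
      rw [Invol.mem_map_conj, Invol.mem_map_conj, theta, h1 (n⁻¹ * y * n)]
      rw [show n⁻¹ * c * n * (n⁻¹ * y * n) * (n⁻¹ * c * n)⁻¹ = n⁻¹ * (c * y * c⁻¹) * n by group]
  exact hle ⟨x, hx, rfl⟩

theorem Setting.normalizer_le_normalizer_closure (h : Setting p E) :
    normalizer (E : Set G) ≤ normalizer (Cfsg.signalizerClosure E (theta p) : Set G) := by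
  have key : ∀ n ∈ normalizer (E : Set G), ∀ x ∈ Cfsg.signalizerClosure E (theta p),
      n * x * n⁻¹ ∈ Cfsg.signalizerClosure E (theta p) := by
    intro n hn
    show Cfsg.signalizerClosure E (theta p) ≤
      (Cfsg.signalizerClosure E (theta p)).comap (MulAut.conj n).toMonoidHom
    refine iSup_le fun a x hx => ?_
    obtain ⟨a, ha, ha1⟩ := a
    show n * x * n⁻¹ ∈ Cfsg.signalizerClosure E (theta p)
    have hmem : theta p (n * a * n⁻¹) ≤ Cfsg.signalizerClosure E (theta p) :=
      le_iSup (fun b : {b : G // b ∈ E ∧ b ≠ 1} => theta p (b : G))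
        ⟨n * a * n⁻¹, (mem_normalizer_iff.1 hn a).1 ha, fun hh => ha1 (conj_eq_one_iff.1 hh)⟩
    exact hmem (theta_conj n a hx)
  intro n hn
  refine mem_normalizer_iff.2 fun x => ⟨key n hn x, fun hx => ?_⟩
  have := key n⁻¹ (inv_mem hn) _ hx
  simpa [mul_assoc] using this

theorem Setting.exists_maximal (h : Setting p E) : ∃ M : Subgroup G, IsCoatom M ∧
    normalizer (E : Set G) ≤ M ∧ ∀ a ∈ E, a ≠ 1 → centralizer {a} ≤ M := by
  set W := Cfsg.signalizerClosure E (theta p) with hW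
  have hWp := h.exists_closure
  have hne : normalizer (E : Set G) ⊔ W ≠ ⊤ := by
    by_cases hW1 : W = ⊥
    · rw [hW1, sup_bot_eq]
      refine h.crit.normalizer_ne_top (fun hb => ?_) (h.crit.ne_top_of_comm fun x hx y hy =>
        h.full.comm hx hy)
      have := h.eight
      rw [hb, Subgroup.card_bot] at this
      omega
    · have hWt : W ≠ ⊤ := by
        refine h.crit.ne_top_of_solvable ?_
        haveI := hWp.isNilpotent
        infer_instance
      exact ne_top_of_le_ne_top (h.crit.normalizer_ne_top hW1 hWt)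
        (sup_le h.normalizer_le_normalizer_closure Subgroup.le_normalizer)
  obtain ⟨M, hM, hle⟩ := (eq_top_or_exists_le_coatom _).resolve_left hne
  refine ⟨M, hM, le_sup_left.trans hle, fun a ha ha1 => ?_⟩
  refine (h.crit.ab.le_pCoreOf_sup_normalizer h.two (h.crit.solv _ (h.crit.centralizer_ne_top ha1))
    h.full (h.full.le_centralizer ha)).trans (sup_le ?_ ?_)
  · have : theta p a ≤ W := le_iSup (fun x : {a : G // a ∈ E ∧ a ≠ 1} => theta p (x : G)) ⟨a, ha, ha1⟩
    exact this.trans (le_sup_right.trans hle)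
  · exact inf_le_right.trans (le_sup_left.trans hle)

/-- A maximal subgroup as provided by `exists_maximal`. -/
structure Max (p : ℕ) (E M : Subgroup G) : Prop where
  setting : Setting p E
  coatom : IsCoatom M
  normalizer_le : normalizer (E : Set G) ≤ M
  cent_le : ∀ a ∈ E, a ≠ 1 → centralizer {a} ≤ M

theorem Max.le_M (h : Max p E M) : E ≤ M := Subgroup.le_normalizer.trans h.normalizer_le

theorem Max.uniq (h : Max p E M) {L : Subgroup G} (hL : L ≠ ⊤) (hEL : E ≤ L) : L ≤ M := by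
  haveI : Fact (Nat.Prime 2) := ⟨Nat.prime_two⟩
  refine (h.setting.crit.ab.le_pCoreOf_sup_normalizer h.setting.two (h.setting.crit.solv L hL)
    h.setting.full hEL).trans (sup_le ?_ (inf_le_right.trans h.normalizer_le))
  exact Signalizer.le_of_forall_centralizer h.setting.full.elemAb
    (le_trans (by norm_num) h.setting.eight) (hEL.trans (LocalP.le_normalizer_pCoreOf L))
    (h.setting.two_not_dvd (LocalP.pCoreOf_isPGroup L))
    fun a ha ha1 => inf_le_right.trans (h.cent_le a ha ha1)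

theorem Max.uniq_conj (h : Max p E M) {L : Subgroup G} (hL : L ≠ ⊤) {g : G}
    (hg : ∀ e ∈ E, g * e * g⁻¹ ∈ L) {l : G} (hl : l ∈ L) : g⁻¹ * l * g ∈ M := by
  refine h.uniq (L := L.comap (MulAut.conj g).toMonoidHom) (fun ht => hL (eq_top_iff.2 fun x _ => ?_))
    hg (x := g⁻¹ * l * g) ?_
  · have hx : g⁻¹ * x * g ∈ L.comap (MulAut.conj g).toMonoidHom := ht ▸ mem_top _
    have : g * (g⁻¹ * x * g) * g⁻¹ ∈ L := hx
    simpa [mul_assoc] using this
  · show g * (g⁻¹ * l * g) * g⁻¹ ∈ L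
    simpa [mul_assoc] using hl

theorem Setting.sylow_le_centralizer (h : Setting p E) {S : Sylow 2 G}
    (hS : E ≤ (S : Subgroup G)) {x : G} (hx : x ∈ (S : Subgroup G)) {e : G} (he : e ∈ E) :
    Commute x e :=
  h.crit.twoGroup_comm S.2 hx (hS he)

theorem Setting.mem_omega (h : Setting p E) {S : Sylow 2 G} (hS : E ≤ (S : Subgroup G)) {x : G}
    (hx : x ∈ (S : Subgroup G)) (hx2 : x ^ 2 = 1) : x ∈ E :=
  h.full.full x hx2 fun _ he => (h.sylow_le_centralizer hS hx he).eq.symm

theorem Setting.normalizer_sylow_le (h : Setting p E) {S : Sylow 2 G}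
    (hS : E ≤ (S : Subgroup G)) :
    normalizer ((S : Subgroup G) : Set G) ≤ normalizer (E : Set G) := by
  intro y hy
  refine mem_normalizer_iff.2 fun e => ⟨fun he => ?_, fun he => ?_⟩
  · exact h.mem_omega hS ((mem_normalizer_iff.1 hy e).1 (hS he))
      (by rw [conj_pow, h.full.sq e he, mul_one, mul_inv_cancel])
  · refine h.mem_omega hS ((mem_normalizer_iff.1 hy e).2 (hS he)) ?_
    have := h.full.sq _ he
    rwa [conj_pow, conj_eq_one_iff] at this

theorem Max.sylow_le (h : Max p E M) {S : Sylow 2 G} (hS : E ≤ (S : Subgroup G)) :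
    (S : Subgroup G) ≤ M :=
  (Subgroup.le_normalizer.trans (h.setting.normalizer_sylow_le hS)).trans h.normalizer_le

theorem Max.conj_mem_E (h : Max p E M) {t : G} (htM : t ∈ M) (ht : t ^ 2 = 1) :
    ∃ m ∈ M, m * t * m⁻¹ ∈ E := by
  haveI : Fact (Nat.Prime 2) := ⟨Nat.prime_two⟩
  obtain ⟨S, hS⟩ := h.setting.sylow
  have hz : IsPGroup 2 ↥(zpowers (⟨t, htM⟩ : M)) := by
    refine IsPGroup.of_card (n := (Nat.card (zpowers (⟨t, htM⟩ : M))).factorization 2) ?_
    rw [Nat.card_zpowers, orderOf_mk]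
    rcases (Nat.dvd_prime Nat.prime_two).1 (orderOf_dvd_of_pow_eq_one ht) with e | e <;> rw [e]
    · simp
    · simp [Nat.prime_two.factorization_self]
  obtain ⟨T, hT⟩ := hz.exists_le_sylow
  obtain ⟨m, hm⟩ := MulAction.exists_smul_eq M T (S.subtype (h.sylow_le hS))
  refine ⟨m, m.2, h.setting.mem_omega hS ?_ (by rw [conj_pow, ht, mul_one, mul_inv_cancel])⟩
  have : m * ⟨t, htM⟩ * m⁻¹ ∈ ((S.subtype (h.sylow_le hS) : Sylow 2 M) : Subgroup M) := by
    rw [← hm, Sylow.coe_subgroup_smul, mem_pointwise_smul_iff_inv_smul_mem]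
    simpa [MulAut.smul_def, mul_assoc] using hT (mem_zpowers _)
  rw [Sylow.coe_subtype] at this
  exact this

/-- Fusion of elements of `E` happens in `N(E)`. -/
theorem Max.fusion (h : Max p E M) {a x : G} (ha : a ∈ E) (ha1 : a ≠ 1)
    (hb : x * a * x⁻¹ ∈ E) :
    x ∈ M ∧ ∃ n ∈ normalizer (E : Set G), n * a * n⁻¹ = x * a * x⁻¹ := by
  haveI : Fact (Nat.Prime 2) := ⟨Nat.prime_two⟩
  obtain ⟨S, hS⟩ := h.setting.sylow
  set b := x * a * x⁻¹ with hbdef
  have hb1 : b ≠ 1 := fun hh => ha1 (conj_eq_one_iff.1 hh)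
  have h1 : (S : Subgroup G) ≤ centralizer {b} := fun y hy =>
    mem_centralizer_singleton_iff.2 (h.setting.sylow_le_centralizer hS hy hb).eq
  have h2 : ((MulAut.conj x • S : Sylow 2 G) : Subgroup G) ≤ centralizer {b} := by
    intro y hy
    rw [Sylow.pointwise_smul_def, mem_pointwise_smul_iff_inv_smul_mem] at hy
    have hy' : x⁻¹ * y * x ∈ (S : Subgroup G) := by simpa [MulAut.smul_def] using hy
    have hc := (h.setting.sylow_le_centralizer hS hy' ha).eq
    refine mem_centralizer_singleton_iff.2 ?_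
    rw [hbdef]
    calc y * (x * a * x⁻¹) = x * (x⁻¹ * y * x * a) * x⁻¹ := by group
      _ = x * (a * (x⁻¹ * y * x)) * x⁻¹ := by rw [hc]
      _ = x * a * x⁻¹ * y := by group
  obtain ⟨c, hc⟩ := MulAction.exists_smul_eq (centralizer {b})
    ((MulAut.conj x • S).subtype h2) (S.subtype h1)
  have hn : (c : G) * x ∈ normalizer ((S : Subgroup G) : Set G) := by
    have hmem : ∀ y ∈ (S : Subgroup G), (c : G) * x * y * ((c : G) * x)⁻¹ ∈ (S : Subgroup G) := by
      intro y hy
      have hyx : x * y * x⁻¹ ∈ ((MulAut.conj x • S : Sylow 2 G) : Subgroup G) := by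
        rw [Sylow.pointwise_smul_def, mem_pointwise_smul_iff_inv_smul_mem]
        simpa [MulAut.smul_def, mul_assoc] using hy
      have : c * ⟨x * y * x⁻¹, h2 hyx⟩ * c⁻¹ ∈ ((S.subtype h1 : Sylow 2 _) : Subgroup _) := by
        rw [← hc, Sylow.coe_subgroup_smul, mem_pointwise_smul_iff_inv_smul_mem,
          Sylow.coe_subtype]
        simpa [MulAut.smul_def, mul_assoc, mem_subgroupOf] using hyx
      rw [Sylow.coe_subtype, mem_subgroupOf] at this
      simpa [mul_assoc] using this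
    exact Subgroup.mem_normalizer_fintype hmem
  have hcM : (c : G) ∈ M := h.cent_le b hb hb1 c.2
  have hnE := h.setting.normalizer_sylow_le hS hn
  refine ⟨?_, (c : G) * x, hnE, ?_⟩
  · have := M.mul_mem (inv_mem hcM) (h.normalizer_le hnE)
    rwa [inv_mul_cancel_left] at this
  · calc (c : G) * x * a * ((c : G) * x)⁻¹ = (c : G) * b * (c : G)⁻¹ := by
          show _ = (c : G) * (x * a * x⁻¹) * (c : G)⁻¹; group
      _ = b := by rw [mem_centralizer_singleton_iff.1 c.2, mul_inv_cancel_right]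

theorem Max.isStronglyEmbedded (h : Max p E M) : Cfsg.IsStronglyEmbedded M := by
  refine Invol.isStronglyEmbedded_of_forall h.coatom.1 ?_ ?_
  · obtain ⟨a, ha, ha1⟩ := Signalizer.exists_ne_one_of_le_card
      (A := E) (lt_of_lt_of_le (by norm_num) h.setting.eight)
    have h2 : orderOf a = 2 := orderOf_eq_prime (h.setting.full.sq a ha) ha1
    exact even_iff_two_dvd.2 (h2 ▸ Subgroup.orderOf_dvd_natCard M (h.le_M ha))
  · intro g t ht htM hg
    have ht2 : t ^ 2 = 1 := ht ▸ pow_orderOf_eq_one t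
    obtain ⟨m, hm, hmE⟩ := h.conj_mem_E htM ht2
    obtain ⟨m', hm', hmE'⟩ := h.conj_mem_E hg (by
      rw [show g⁻¹ * t * g = g⁻¹ * t * g⁻¹⁻¹ by group, conj_pow, ht2]; group)
    have hne : m * t * m⁻¹ ≠ 1 := fun hh => by
      rw [conj_eq_one_iff.1 hh, orderOf_one] at ht
      omega
    have key := (h.fusion (x := m' * g⁻¹ * m⁻¹) hmE hne (by
      rw [show m' * g⁻¹ * m⁻¹ * (m * t * m⁻¹) * (m' * g⁻¹ * m⁻¹)⁻¹
        = m' * (g⁻¹ * t * g) * m'⁻¹ by group]
      exact hmE')).1
    have : g⁻¹ ∈ M := by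
      have := M.mul_mem (M.mul_mem (inv_mem hm') key) hm
      simpa [mul_assoc] using this
    simpa using inv_mem this

theorem Max.exists_not_mem (h : Max p E M) : ∃ i : G, orderOf i = 2 ∧ i ∉ M := by
  by_contra hno
  push Not at hno
  set N := Subgroup.normalClosure {t : G | orderOf t = 2} with hN
  have hle : N ≤ M := by
    refine (Subgroup.closure_le M).2 fun x hx => ?_
    obtain ⟨t, ht, htx⟩ := Group.mem_conjugatesOfSet_iff.1 hx
    obtain ⟨c, rfl⟩ := isConj_iff.1 htx
    exact hno _ ((TwoFusion.orderOf_conj' c t).trans ht)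
  rcases h.setting.crit.eq_bot_or_top (N := N) inferInstance with hb | ht
  · obtain ⟨a, ha, ha1⟩ := Signalizer.exists_ne_one_of_le_card
      (A := E) (lt_of_lt_of_le (by norm_num) h.setting.eight)
    have : a ∈ N := Subgroup.subset_normalClosure
      (orderOf_eq_prime (h.setting.full.sq a ha) ha1)
    exact ha1 (mem_bot.1 (hb ▸ this))
  · exact h.coatom.1 (top_le_iff.1 (ht ▸ hle))

/-- A single class of involutions. -/
theorem Max.one_class (h : Max p E M) {a t : G} (ha : a ∈ E) (ha1 : a ≠ 1) (ht : orderOf t = 2) :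
    ∃ g : G, g * a * g⁻¹ = t := by
  obtain ⟨i, hi, hiM⟩ := h.exists_not_mem
  have hse := h.isStronglyEmbedded
  have h2 : orderOf a = 2 := orderOf_eq_prime (h.setting.full.sq a ha) ha1
  by_cases htM : t ∈ M
  · obtain ⟨v, -, hv, -⟩ := TwoFusion.se_exists_swap hse h2 (h.le_M ha) hi hiM
    obtain ⟨w, -, hw, -⟩ := TwoFusion.se_exists_swap hse ht htM hi hiM
    refine ⟨w⁻¹ * v, ?_⟩
    rw [show w⁻¹ * v * a * (w⁻¹ * v)⁻¹ = w⁻¹ * (v * a * v⁻¹) * w by group, hv, ← hw]
    group
  · obtain ⟨v, -, hv, -⟩ := TwoFusion.se_exists_swap hse h2 (h.le_M ha) ht htM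
    exact ⟨v, hv⟩

theorem Max.transitive (h : Max p E M) {a b : G} (ha : a ∈ E) (ha1 : a ≠ 1) (hb : b ∈ E)
    (hb1 : b ≠ 1) : ∃ n ∈ normalizer (E : Set G), n * a * n⁻¹ = b := by
  obtain ⟨g, hg⟩ := h.one_class ha ha1 (orderOf_eq_prime (h.setting.full.sq b hb) hb1)
  obtain ⟨n, hn, hna⟩ := (h.fusion ha ha1 (x := g) (by rwa [hg])).2
  exact ⟨n, hn, hna.trans hg⟩

theorem Max.card_E (h : Max p E M) : Nat.card E = p + 1 := by
  classical
  obtain ⟨a, ha, ha1⟩ := Signalizer.exists_ne_one_of_le_card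
    (A := E) (lt_of_lt_of_le (by norm_num) h.setting.eight)
  set N := normalizer (E : Set G) with hN
  let St : Subgroup N := (centralizer {a}).subgroupOf N
  let f : N ⧸ St → {e : E // e ≠ 1} := Quotient.lift
    (fun n : N => (⟨⟨(n : G) * a * (n : G)⁻¹, (mem_normalizer_iff.1 n.2 a).1 ha⟩,
      fun hh => ha1 (conj_eq_one_iff.1 (congrArg Subtype.val hh))⟩ : {e : E // e ≠ 1}))
    (fun n n' hnn => by
      have hmem : n⁻¹ * n' ∈ St := QuotientGroup.leftRel_apply.1 hnn
      rw [mem_subgroupOf, mem_centralizer_singleton_iff] at hmem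
      push_cast at hmem
      apply Subtype.ext; apply Subtype.ext
      show (n : G) * a * (n : G)⁻¹ = (n' : G) * a * (n' : G)⁻¹
      calc (n : G) * a * (n : G)⁻¹
          = (n : G) * (a * ((n : G)⁻¹ * n')) * (n' : G)⁻¹ := by group
        _ = (n : G) * (((n : G)⁻¹ * n') * a) * (n' : G)⁻¹ := by rw [hmem]
        _ = (n' : G) * a * (n' : G)⁻¹ := by group)
  have hf : Function.Bijective f := by
    constructor
    · intro x y
      refine Quotient.inductionOn₂ x y fun n n' hh => Quotient.sound ?_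
      have he : (n : G) * a * (n : G)⁻¹ = (n' : G) * a * (n' : G)⁻¹ :=
        congrArg (fun z : {e : E // e ≠ 1} => ((z : E) : G)) hh
      refine QuotientGroup.leftRel_apply.2 ?_
      rw [mem_subgroupOf, mem_centralizer_singleton_iff]
      push_cast
      calc (n : G)⁻¹ * (n' : G) * a = (n : G)⁻¹ * ((n' : G) * a * (n' : G)⁻¹) * n' := by group
        _ = (n : G)⁻¹ * ((n : G) * a * (n : G)⁻¹) * n' := by rw [he]
        _ = a * ((n : G)⁻¹ * n') := by group
    · rintro ⟨⟨b, hb⟩, hb1⟩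
      obtain ⟨n, hn, hnb⟩ := h.transitive ha ha1 hb (fun hh => hb1 (Subtype.ext hh))
      exact ⟨QuotientGroup.mk ⟨n, hn⟩, Subtype.ext (Subtype.ext hnb)⟩
  have hidx : St.index = Nat.card E - 1 := by
    haveI := Fintype.ofFinite E
    rw [Subgroup.index, Nat.card_congr (Equiv.ofBijective f hf), Nat.card_eq_fintype_card,
      Fintype.card_subtype_compl, Fintype.card_subtype_eq, Nat.card_eq_fintype_card]
  have hpow : ∃ s, St.index = p ^ s := by
    refine ⟨_, Nat.eq_prime_pow_of_unique_prime_dvd (p := p) Subgroup.index_ne_zero_of_finite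
      fun {q} hq hqd => ?_⟩
    by_contra hqp
    haveI := Fact.mk hq
    obtain ⟨Q⟩ : Nonempty (Sylow q N) := inferInstance
    refine Q.not_dvd_index (hqd.trans (Subgroup.index_dvd_of_le fun x hx => ?_))
    rw [mem_subgroupOf, mem_centralizer_singleton_iff]
    refine (h.setting.crit.ab.commute_of_normalizer h.setting.full h.setting.two ?_ x.2 ha).eq
    rw [Subgroup.orderOf_coe]
    obtain ⟨k, hk⟩ := Q.2.exists_card_eq
    intro hd
    have := hd.trans (Subgroup.orderOf_dvd_natCard (Q : Subgroup N) hx)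
    rw [hk] at this
    exact hqp ((Nat.prime_dvd_prime_iff_eq hp.out hq).1 (hp.out.dvd_of_dvd_pow this)).symm
  obtain ⟨s, hs⟩ := hpow
  haveI : Fact (Nat.Prime 2) := ⟨Nat.prime_two⟩
  obtain ⟨r, hr⟩ := (Signalizer.elemAb_isPGroup h.setting.full.elemAb).exists_card_eq
  have h8 := h.setting.eight
  rw [hr] at h8 hidx ⊢
  have hr3 : 3 ≤ r := (Nat.pow_le_pow_iff_right (by norm_num)).1 h8
  have h5 := h.setting.crit.five
  have hs1 : s = 1 := two_pow_sub_one_eq_pow (hp.out.odd_of_ne_two h.setting.two) (by omega)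
    (r := r) (by omega) (by omega)
  rw [hs1, pow_one] at hs
  omega

/-- An element of `N(E)` fixing one involution of `E` centralizes `E`. -/
theorem Max.regular (h : Max p E M) {z a b : G} (hz : z ∈ normalizer (E : Set G)) (ha : a ∈ E)
    (ha1 : a ≠ 1) (haz : Commute z a) (hb : b ∈ E) : Commute z b := by
  by_contra hne
  rcases card_conj_bound h.setting.crit.ab h.setting.full h.setting.two hz hb hne ha haz with h1 | h1
  · rw [h.card_E] at h1
    omega
  · exact ha1 h1

/-- The automizer of `E` is abelian. -/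
theorem Max.commutator_commute (h : Max p E M) {x y e : G} (hx : x ∈ normalizer (E : Set G))
    (hy : y ∈ normalizer (E : Set G)) (he : e ∈ E) : Commute (x * y * x⁻¹ * y⁻¹) e := by
  classical
  have hconj : ∀ g ∈ normalizer (E : Set G), ∀ c : G, (∀ b ∈ E, Commute c b) →
      ∀ b ∈ E, Commute (g * c * g⁻¹) b := by
    intro g hg c hc b hb
    have hb' : g⁻¹ * b * g ∈ E := by
      have := (mem_normalizer_iff.1 (inv_mem hg) b).1 hb
      simpa using this
    show g * c * g⁻¹ * b = b * (g * c * g⁻¹)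
    calc g * c * g⁻¹ * b = g * (c * (g⁻¹ * b * g)) * g⁻¹ := by group
      _ = g * (g⁻¹ * b * g * c) * g⁻¹ := by rw [(hc _ hb').eq]
      _ = b * (g * c * g⁻¹) := by group
  by_cases hyc : ∀ b ∈ E, Commute y b
  · exact (hconj x hx y hyc e he).mul_left (hyc e he).inv_left
  push Not at hyc
  obtain ⟨a, ha, hne⟩ := hyc
  have ha1 : a ≠ 1 := fun hh => hne (hh ▸ Commute.one_right y)
  obtain ⟨k, hk⟩ := h.setting.crit.ab.exists_pow_commute h.setting.full h.setting.two hy
  let f : Fin p → {b : E // b ≠ 1} := fun i =>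
    ⟨⟨_, conj_pow_mem_normalizer hy ha i⟩, fun hh => ha1 (conj_eq_one_iff.1 (congrArg Subtype.val hh))⟩
  have hf : Function.Injective f := fun i j hh => conj_pow_injective (hk a ha) hne
    (congrArg (fun z : {e : E // e ≠ 1} => ((z : E) : G)) hh)
  haveI := Fintype.ofFinite E
  have hbij : Function.Bijective f := (Fintype.bijective_iff_injective_and_card f).2 ⟨hf, by
    rw [Fintype.card_fin, Fintype.card_subtype_compl, Fintype.card_subtype_eq,
      ← Nat.card_eq_fintype_card, h.card_E, Nat.add_sub_cancel]⟩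
  obtain ⟨i, hi⟩ := hbij.2 ⟨⟨x * a * x⁻¹, (mem_normalizer_iff.1 hx a).1 ha⟩,
    fun hh => ha1 (conj_eq_one_iff.1 (congrArg Subtype.val hh))⟩
  have hi' : y ^ (i : ℕ) * a * (y ^ (i : ℕ))⁻¹ = x * a * x⁻¹ :=
    congrArg (fun z : {e : E // e ≠ 1} => ((z : E) : G)) hi
  set c := (y ^ (i : ℕ))⁻¹ * x with hcdef
  have hcN : c ∈ normalizer (E : Set G) := mul_mem (inv_mem (pow_mem hy _)) hx
  have hca : Commute c a := by
    show c * a = a * c
    calc c * a = (y ^ (i : ℕ))⁻¹ * (x * a * x⁻¹) * x := by rw [hcdef]; group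
      _ = (y ^ (i : ℕ))⁻¹ * (y ^ (i : ℕ) * a * (y ^ (i : ℕ))⁻¹) * x := by rw [hi']
      _ = a * c := by rw [hcdef]; group
  have hcE : ∀ b ∈ E, Commute c b := fun b hb => h.regular hcN ha ha1 hca hb
  have hxc : x = y ^ (i : ℕ) * c := by rw [hcdef]; group
  have h1 : ∀ b ∈ E, Commute (c * (y * c⁻¹ * y⁻¹)) b := fun b hb =>
    (hcE b hb).mul_left (hconj y hy c⁻¹ (fun b' hb' => (hcE b' hb').inv_left) b hb)
  have h2 := hconj _ (pow_mem hy (i : ℕ)) _ h1 e he
  have heq : x * y * x⁻¹ * y⁻¹ = y ^ (i : ℕ) * (c * (y * c⁻¹ * y⁻¹)) * (y ^ (i : ℕ))⁻¹ := by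
    rw [hxc]; group
  rwa [heq]

end Cfsg.Agent.OddPre.PPrimeAbelian
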