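import Cfsg.Agent.OddPre.PPrimeAbelian.Basic
import Cfsg.Agent.Signalizer.Functor
import Cfsg.Agent.Signalizer.Generation
import Cfsg.Agent.Transfer.Frobenius

/-!
# The minimal counterexample: simple, all proper subgroups solvable, `p'`-subgroups abelian
-/

set_option autoImplicit false

namespace Cfsg.Agent.OddPre.PPrimeAbelian

open Subgroup

variable {G : Type*} [Group G] {p : ℕ}

theorem commute_of_pow_coprime {y b : G} {i j : ℕ} (hi : Commute (y ^ i) b)
    (hj : Commute (y ^ j) b) (hij : i.Coprime j) : Commute y b := by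
  have h1 := (hi.zpow_left (Nat.gcdA i j)).mul_left (hj.zpow_left (Nat.gcdB i j))
  rw [← zpow_natCast, ← zpow_mul, ← zpow_natCast y j, ← zpow_mul, ← zpow_add,
    ← Nat.gcd_eq_gcd_ab, hij, Nat.cast_one, zpow_one] at h1
  exact h1

theorem conj_pow_eq_iff {z b : G} {i j : ℕ} (h : i ≤ j) :
    z ^ i * b * (z ^ i)⁻¹ = z ^ j * b * (z ^ j)⁻¹ ↔ Commute (z ^ (j - i)) b := by
  obtain ⟨d, rfl⟩ : ∃ d, j = i + d := ⟨j - i, by omega⟩
  rw [Nat.add_sub_cancel_left, pow_add]
  constructor
  · intro he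
    have : z ^ i * (b * (z ^ d)) * (z ^ d * z ^ 0)⁻¹ * (z ^ i)⁻¹
        = z ^ i * (z ^ d * b) * (z ^ d * z ^ 0)⁻¹ * (z ^ i)⁻¹ := by
      simpa [mul_assoc, mul_inv_rev] using he
    exact (mul_left_cancel (mul_right_cancel (mul_right_cancel this))).symm
  · intro hc
    have hc' : z ^ d * b = b * z ^ d := hc.eq
    calc z ^ i * b * (z ^ i)⁻¹ = z ^ i * (b * z ^ d) * (z ^ d)⁻¹ * (z ^ i)⁻¹ := by group
      _ = z ^ i * z ^ d * b * (z ^ i * z ^ d)⁻¹ := by rw [← hc']; group

/-- If conjugation by `z` on `b` has `p`-power period and is nontrivial, `p` conjugates are distinct. -/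
theorem conj_pow_injective [hp : Fact p.Prime] {z b : G} {k : ℕ}
    (hk : Commute (z ^ p ^ k) b) (hne : ¬ Commute z b) :
    Function.Injective fun i : Fin p => z ^ (i : ℕ) * b * (z ^ (i : ℕ))⁻¹ := by
  have key : ∀ i j : ℕ, i < j → j < p → z ^ i * b * (z ^ i)⁻¹ ≠ z ^ j * b * (z ^ j)⁻¹ := by
    intro i j hij hjp he
    refine hne (commute_of_pow_coprime ((conj_pow_eq_iff hij.le).1 he) hk ?_)
    refine Nat.Coprime.pow_right k ((hp.out.coprime_iff_not_dvd.2 fun hd => ?_).symm)
    have := Nat.le_of_dvd (by omega) hd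
    omega
  intro i j he
  rcases lt_trichotomy (i : ℕ) (j : ℕ) with h | h | h
  · exact absurd he (key i j h j.2)
  · exact Fin.ext h
  · exact absurd he.symm (key j i h i.2)

theorem two_pow_sub_one_eq_pow {q r s : ℕ} (hq : Odd q) (hq1 : 1 < q) (hr : 2 ≤ r)
    (h : q ^ s + 1 = 2 ^ r) : s = 1 := by
  rcases Nat.even_or_odd s with ⟨t, ht⟩ | hs
  · exfalso
    obtain ⟨u, hu⟩ := hq.pow (n := t)
    subst ht
    obtain ⟨r', rfl⟩ : ∃ r', r = r' + 2 := ⟨r - 2, by omega⟩
    rw [pow_add, hu, pow_add] at h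
    ring_nf at h
    omega
  · obtain ⟨j, hj, hqj⟩ : ∃ j ≤ r, q + 1 = 2 ^ j := by
      have hd := hs.nat_add_dvd_pow_add_pow q 1
      rw [one_pow, h] at hd
      exact (Nat.dvd_prime_pow Nat.prime_two).1 hd
    rcases hj.eq_or_lt with rfl | hlt
    · exact Nat.pow_right_injective hq1 (by simp only [pow_one]; omega)
    exfalso
    obtain ⟨t, rfl⟩ := hs
    have key : ∀ x : ℤ, ∀ t : ℕ,
        ∃ c : ℤ, (x - 1) ^ (2 * t + 1) = -1 + (2 * t + 1) * x + c * x ^ 2 := by
      intro x t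
      induction t with
      | zero => exact ⟨0, by ring⟩
      | succ t ih =>
        obtain ⟨c, hc⟩ := ih
        refine ⟨-(2 * (2 * (t : ℤ) + 1)) - 1 + (2 * (t : ℤ) + 1) * x
          + c * (1 - 2 * x + x ^ 2), ?_⟩
        rw [show 2 * (t + 1) + 1 = 2 * t + 1 + 2 from by ring, pow_add, hc]
        push_cast
        ring
    obtain ⟨c, hc⟩ := key ((2 : ℤ) ^ j) t
    have hqz : ((q : ℤ)) = (2 : ℤ) ^ j - 1 := by
      have : ((q + 1 : ℕ) : ℤ) = ((2 ^ j : ℕ) : ℤ) := by rw [hqj]
      push_cast at this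
      omega
    obtain ⟨d, rfl⟩ : ∃ d, r = j + (d + 1) := ⟨r - j - 1, by omega⟩
    have hz : ((q ^ (2 * t + 1) + 1 : ℕ) : ℤ) = ((2 ^ (j + (d + 1)) : ℕ) : ℤ) := by rw [h]
    push_cast at hz
    rw [hqz, hc, pow_add (2 : ℤ) j] at hz
    have h2 : (2 * (t : ℤ) + 1) + c * 2 ^ j = 2 ^ (d + 1) := by
      have hne : (2 : ℤ) ^ j ≠ 0 := pow_ne_zero _ two_ne_zero
      exact mul_left_cancel₀ hne (by linear_combination hz)
    have hj1 : j ≠ 0 := by
      rintro rfl
      rw [pow_zero] at hqj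
      omega
    obtain ⟨j', rfl⟩ := Nat.exists_eq_succ_of_ne_zero hj1
    rw [pow_succ, pow_succ, ← mul_assoc] at h2
    omega

/-- The hypotheses on a minimal counterexample. -/
structure Crit (p : ℕ) (G : Type*) [Group G] : Prop where
  five : 5 ≤ p
  ab : Ab p G
  simple : IsSimpleGroup G
  solv : ∀ L : Subgroup G, L ≠ ⊤ → Group.IsSolvable L
  notSolv : ¬ Group.IsSolvable G
  even : 2 ∣ Nat.card G

theorem Crit.p_ne_two (hc : Crit p G) : p ≠ 2 := by have := hc.five; omega

theorem Crit.eq_bot_or_top (hc : Crit p G) {N : Subgroup G} (hN : N.Normal) : N = ⊥ ∨ N = ⊤ :=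
  hc.simple.eq_bot_or_eq_top_of_normal N hN

theorem Crit.normalizer_ne_top (hc : Crit p G) {H : Subgroup G} (h1 : H ≠ ⊥) (h2 : H ≠ ⊤) :
    normalizer (H : Set G) ≠ ⊤ := fun h =>
  (hc.eq_bot_or_top (Subgroup.normalizer_eq_top_iff.1 h)).elim h1 h2

theorem Crit.ne_top_of_solvable (hc : Crit p G) {H : Subgroup G} (hs : Group.IsSolvable H) :
    H ≠ ⊤ := by
  rintro rfl
  haveI := hs
  exact hc.notSolv (solvable_of_surjective (f := (topEquiv : (⊤ : Subgroup G) ≃* G).toMonoidHom)
    (MulEquiv.surjective _))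

theorem Crit.ne_top_of_comm (hc : Crit p G) {H : Subgroup G}
    (h : ∀ x ∈ H, ∀ y ∈ H, x * y = y * x) : H ≠ ⊤ :=
  hc.ne_top_of_solvable (isSolvable_of_comm fun x y => Subtype.ext (h x x.2 y y.2))

theorem Crit.center_eq_bot (hc : Crit p G) : center G = ⊥ :=
  (hc.eq_bot_or_top inferInstance).resolve_right
    (hc.ne_top_of_comm fun x hx y _ => (mem_center_iff.1 hx y).symm)

theorem Crit.centralizer_ne_top (hc : Crit p G) {a : G} (ha : a ≠ 1) :
    centralizer {a} ≠ ⊤ := by
  intro h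
  refine ha (mem_bot.1 (hc.center_eq_bot ▸ mem_center_iff.2 fun g => ?_))
  exact mem_centralizer_singleton_iff.1 (h ▸ mem_top g)

theorem Crit.zpowers_ne_top (hc : Crit p G) (x : G) : zpowers x ≠ ⊤ :=
  hc.ne_top_of_comm fun _ ha _ hb => by
    obtain ⟨i, rfl⟩ := ha
    obtain ⟨j, rfl⟩ := hb
    exact (Commute.zpow_zpow_self x i j).eq

theorem Crit.twoGroup_comm [Finite G] [hp : Fact p.Prime] (hc : Crit p G) {T : Subgroup G}
    (hT : IsPGroup 2 T) {x y : G} (hx : x ∈ T) (hy : y ∈ T) : x * y = y * x := by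
  refine hc.ab T (fun hd => ?_) x hx y hy
  haveI : Fact (Nat.Prime 2) := ⟨Nat.prime_two⟩
  obtain ⟨k, hk⟩ := hT.exists_card_eq
  rw [hk] at hd
  exact hc.p_ne_two ((Nat.prime_dvd_prime_iff_eq hp.out Nat.prime_two).1
    (hp.out.dvd_of_dvd_pow hd))

/-- The data used in both cases. -/
structure Setting (p : ℕ) (E : Subgroup G) : Prop where
  crit : Crit p G
  full : IsFullTwo E
  sylow : ∃ S : Sylow 2 G, E ≤ (S : Subgroup G)
  moved : ∃ z ∈ normalizer (E : Set G), ∃ e ∈ E, z * e * z⁻¹ ≠ e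
  eight : 2 ^ 3 ≤ Nat.card E

variable [Finite G] [hp : Fact p.Prime] {E : Subgroup G}

theorem IsFullTwo.comm (hE : IsFullTwo E) {a b : G} (ha : a ∈ E) (hb : b ∈ E) : a * b = b * a := by
  have h1 := hE.sq a ha
  have h2 := hE.sq b hb
  have h3 := hE.sq (a * b) (mul_mem ha hb)
  rw [pow_two] at h1 h2 h3
  have e1 : a⁻¹ = a := (eq_inv_of_mul_eq_one_left h1).symm
  have e2 : b⁻¹ = b := (eq_inv_of_mul_eq_one_left h2).symm
  have e3 : a * b = (a * b)⁻¹ := eq_inv_of_mul_eq_one_left h3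
  rw [e3, mul_inv_rev, e1, e2]

theorem IsFullTwo.elemAb (hE : IsFullTwo E) : Cfsg.IsElementaryAbelian 2 E :=
  ⟨⟨⟨fun a b => Subtype.ext (hE.comm a.2 b.2)⟩⟩, hE.sq⟩

/-- A `p'`-element normalizing `E` centralizes it. -/
theorem Ab.commute_of_normalizer (hab : Ab p G) (hE : IsFullTwo E) (hp2 : p ≠ 2) {a : G}
    (ha : ¬ p ∣ orderOf a) (hn : a ∈ normalizer (E : Set G)) {e : G} (he : e ∈ E) :
    Commute a e := by
  set N := normalizer (E : Set G) with hN
  haveI : (E.subgroupOf N).Normal := normal_in_normalizer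
  have hA : ¬ p ∣ Nat.card ↥((zpowers a).subgroupOf N) := by
    rw [Nat.card_congr (subgroupOfEquivOfLe (zpowers_le.2 hn)).toEquiv]
    exact not_dvd_card_zpowers ha
  have hB : ¬ p ∣ Nat.card ↥(E.subgroupOf N) := by
    rw [Nat.card_congr (subgroupOfEquivOfLe (Subgroup.le_normalizer)).toEquiv]
    exact hE.not_dvd_card hp2
  exact congrArg Subtype.val ((hab.subgroup N) _ (not_dvd_card_sup hA hB) ⟨a, hn⟩
    (mem_sup_left (mem_zpowers a)) ⟨e, Subgroup.le_normalizer he⟩ (mem_sup_right he))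

theorem Ab.exists_pow_commute (hab : Ab p G) (hE : IsFullTwo E) (hp2 : p ≠ 2) {z : G}
    (hn : z ∈ normalizer (E : Set G)) :
    ∃ k : ℕ, ∀ e ∈ E, Commute (z ^ p ^ k) e := by
  refine ⟨(orderOf z).factorization p, fun e he =>
    hab.commute_of_normalizer hE hp2 ?_ (pow_mem hn _) he⟩
  rw [orderOf_pow' _ (pow_ne_zero _ hp.out.ne_zero), Nat.gcd_eq_right (Nat.ordProj_dvd _ p)]
  exact Nat.not_dvd_ordCompl hp.out (orderOf_pos z).ne'

theorem conj_pow_mem_normalizer {z e : G} (hn : z ∈ normalizer (E : Set G)) (he : e ∈ E) (i : ℕ) :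
    z ^ i * e * (z ^ i)⁻¹ ∈ E :=
  (mem_normalizer_iff.1 (pow_mem hn i) e).1 he

theorem card_conj_bound {z b : G} (hab : Ab p G) (hE : IsFullTwo E) (hp2 : p ≠ 2)
    (hn : z ∈ normalizer (E : Set G)) (hb : b ∈ E) (hne : ¬ Commute z b) {a : G} (ha : a ∈ E)
    (haz : Commute z a) : p + 2 ≤ Nat.card E ∨ a = 1 := by
  classical
  haveI := Fintype.ofFinite E
  by_cases ha1 : a = 1
  · exact Or.inr ha1
  left
  obtain ⟨k, hk⟩ := hab.exists_pow_commute hE hp2 hn
  have hinj := conj_pow_injective (hk b hb) hne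
  let f : Fin p → E := fun i => ⟨_, conj_pow_mem_normalizer hn hb i⟩
  have hf : Function.Injective f := fun i j h => hinj (congrArg Subtype.val h)
  have h1 : ∀ i, f i ≠ 1 ∧ f i ≠ ⟨a, ha⟩ := by
    refine fun i => ⟨fun h => hne ?_, fun h => hne ?_⟩
    · have : b = 1 := conj_eq_one_iff.1 (congrArg Subtype.val h)
      exact this ▸ Commute.one_right z
    · have h' : z ^ (i : ℕ) * b * (z ^ (i : ℕ))⁻¹ = a := congrArg Subtype.val h
      have : b = a := by
        have hc := (haz.pow_left (i : ℕ)).eq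
        calc b = (z ^ (i : ℕ))⁻¹ * (z ^ (i : ℕ) * b * (z ^ (i : ℕ))⁻¹) * z ^ (i : ℕ) := by group
          _ = (z ^ (i : ℕ))⁻¹ * (z ^ (i : ℕ) * a) := by rw [h', mul_assoc, hc]
          _ = a := by group
      exact this ▸ haz
  have hsub : Finset.univ.image f ⊆ (Finset.univ.erase (1 : E)).erase ⟨a, ha⟩ := by
    intro x hx
    obtain ⟨i, -, rfl⟩ := Finset.mem_image.1 hx
    simp [h1 i]
  have := Finset.card_le_card hsub
  have hmem : (⟨a, ha⟩ : E) ∈ Finset.univ.erase (1 : E) := by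
    simp only [Finset.mem_erase, Finset.mem_univ, and_true]
    exact fun h => ha1 (congrArg Subtype.val h)
  rw [Finset.card_image_of_injective _ hf, Finset.card_univ, Fintype.card_fin,
    Finset.card_erase_of_mem hmem, Finset.card_erase_of_mem (Finset.mem_univ _),
    Finset.card_univ, ← Nat.card_eq_fintype_card] at this
  have hp0 := hp.out.pos
  omega

theorem card_ge_succ {z b : G} (hab : Ab p G) (hE : IsFullTwo E) (hp2 : p ≠ 2)
    (hn : z ∈ normalizer (E : Set G)) (hb : b ∈ E) (hne : ¬ Commute z b) :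
    p + 1 ≤ Nat.card E := by
  classical
  haveI := Fintype.ofFinite E
  obtain ⟨k, hk⟩ := hab.exists_pow_commute hE hp2 hn
  have hinj := conj_pow_injective (hk b hb) hne
  let f : Fin p → E := fun i => ⟨_, conj_pow_mem_normalizer hn hb i⟩
  have hf : Function.Injective f := fun i j h => hinj (congrArg Subtype.val h)
  have hsub : Finset.univ.image f ⊆ Finset.univ.erase (1 : E) := by
    intro x hx
    obtain ⟨i, -, rfl⟩ := Finset.mem_image.1 hx
    simp only [Finset.mem_erase, Finset.mem_univ, and_true]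
    intro h
    have : b = 1 := conj_eq_one_iff.1 (congrArg Subtype.val h)
    exact hne (this ▸ Commute.one_right z)
  have := Finset.card_le_card hsub
  rw [Finset.card_image_of_injective _ hf, Finset.card_univ, Fintype.card_fin,
    Finset.card_erase_of_mem (Finset.mem_univ _), Finset.card_univ,
    ← Nat.card_eq_fintype_card] at this
  have hp0 := hp.out.pos
  omega

/-- An odd-order element centralizing the involutions of an abelian 2-group centralizes it. -/
theorem commute_of_commute_omega {y : G} (hy : Odd (orderOf y)) {S : Subgroup G}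
    (hS : IsPGroup 2 S) (hcomm : ∀ x ∈ S, ∀ z ∈ S, x * z = z * x)
    (hn : y ∈ normalizer (S : Set G)) (hfix : ∀ u ∈ S, u ^ 2 = 1 → Commute y u) :
    ∀ k : ℕ, ∀ b ∈ S, b ^ 2 ^ k = 1 → Commute y b := by
  intro k
  induction k with
  | zero => intro b _ h; rw [pow_zero, pow_one] at h; rw [h]; exact Commute.one_right y
  | succ k ih =>
    intro b hb h
    have hb2 : Commute y (b ^ 2) := ih _ (pow_mem hb 2) (by rwa [← pow_mul, ← pow_succ'])
    have hyb : y * b * y⁻¹ ∈ S := (mem_normalizer_iff.1 hn b).1 hb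
    set c := y * b * y⁻¹ * b⁻¹ with hc
    have hcS : c ∈ S := mul_mem hyb (inv_mem hb)
    have hc2 : c ^ 2 = 1 := by
      have e1 : (y * b * y⁻¹) ^ 2 = b ^ 2 := by rw [conj_pow, hb2.eq, mul_inv_cancel_right]
      rw [hc, (show Commute (y * b * y⁻¹) b⁻¹ from hcomm _ hyb _ (inv_mem hb)).mul_pow, e1,
        inv_pow, mul_inv_cancel]
    have hyc := hfix c hcS hc2
    have hiter : ∀ i : ℕ, y ^ i * b * (y ^ i)⁻¹ = c ^ i * b := by
      intro i
      induction i with
      | zero => simp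
      | succ i ih' =>
        calc y ^ (i + 1) * b * (y ^ (i + 1))⁻¹ = y * (y ^ i * b * (y ^ i)⁻¹) * y⁻¹ := by
              rw [pow_succ']; group
          _ = (y * c ^ i) * b * y⁻¹ := by rw [ih']; group
          _ = c ^ i * (y * b * y⁻¹) := by rw [(hyc.pow_right i).eq]; group
          _ = c ^ (i + 1) * b := by rw [hc, pow_succ, ← hc]; rw [hc]; group
    obtain ⟨m, hm⟩ := hy
    have := hiter (orderOf y)
    rw [pow_orderOf_eq_one, one_mul, inv_one, mul_one, eq_comm, mul_eq_right] at this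
    rw [hm, pow_succ, pow_mul, hc2, one_pow, one_mul] at this
    rw [hc, mul_inv_eq_one] at this
    exact mul_inv_eq_iff_eq_mul.1 this

theorem exists_setting (hc : Crit p G) : ∃ E : Subgroup G, Setting p E := by
  haveI h2 : Fact (Nat.Prime 2) := ⟨Nat.prime_two⟩
  obtain ⟨S⟩ : Nonempty (Sylow 2 G) := inferInstance
  have hcomm : ∀ x ∈ (S : Subgroup G), ∀ y ∈ (S : Subgroup G), x * y = y * x :=
    fun x hx y hy => hc.twoGroup_comm S.2 hx hy
  let E : Subgroup G :=
    { carrier := {x | x ∈ (S : Subgroup G) ∧ x ^ 2 = 1}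
      one_mem' := ⟨one_mem _, one_pow 2⟩
      mul_mem' := fun {a b} ha hb => ⟨mul_mem ha.1 hb.1, by
        rw [(show Commute a b from hcomm _ ha.1 _ hb.1).mul_pow, ha.2, hb.2, one_mul]⟩
      inv_mem' := fun {a} ha => ⟨inv_mem ha.1, by rw [inv_pow, ha.2, inv_one]⟩ }
  have hES : E ≤ (S : Subgroup G) := fun x hx => hx.1
  have hE : IsFullTwo E := by
    refine ⟨fun x hx => hx.2, fun x hx hxc => ?_⟩
    let A := E ⊔ zpowers x
    have hA : IsPGroup 2 A := by
      refine IsPGroup.to_sup_of_normal_right' (S.2.to_le hES) (fun w => ⟨1, ?_⟩) ?_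
      · obtain ⟨i, hi⟩ := w.2
        apply Subtype.ext
        show (w : G) ^ 2 ^ 1 = 1
        rw [← hi, pow_one, ← zpow_natCast, ← zpow_mul, mul_comm, zpow_mul, zpow_natCast, hx,
          one_zpow]
      · intro e he
        refine mem_normalizer_iff.2 fun w => ?_
        have hcw : ∀ v ∈ zpowers x, e * v * e⁻¹ = v := by
          rintro _ ⟨i, rfl⟩
          rw [((show Commute e x from hxc e he).zpow_right i).eq, mul_inv_cancel_right]
        constructor
        · intro hw; rwa [hcw w hw]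
        · intro hw
          have h' := hcw _ hw
          have : e * w * e⁻¹ = w := mul_left_cancel (mul_right_cancel (h'.trans rfl))
          rwa [this] at hw
    obtain ⟨T, hT⟩ := hA.exists_le_sylow
    obtain ⟨g, hg⟩ := MulAction.exists_smul_eq G S T
    have hmem : ∀ w : G, w ∈ (T : Subgroup G) → g⁻¹ * w * g ∈ (S : Subgroup G) := fun w hw => by
      rw [← hg, Sylow.coe_subgroup_smul, mem_pointwise_smul_iff_inv_smul_mem] at hw
      simpa [MulAut.smul_def] using hw
    have himg : ∀ w ∈ A, w ^ 2 = 1 → g⁻¹ * w * g ∈ E := fun w hw hw2 =>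
      ⟨hmem w (hT hw), by
        rw [show g⁻¹ * w * g = g⁻¹ * w * g⁻¹⁻¹ by group, conj_pow, hw2]; group⟩
    let f : E → E := fun e => ⟨_, himg e (mem_sup_left e.2) e.2.2⟩
    have hf : Function.Injective f := fun a b h =>
      Subtype.ext (mul_left_cancel (mul_right_cancel (congrArg Subtype.val h)))
    obtain ⟨e, he⟩ := (Finite.injective_iff_surjective.1 hf)
      ⟨_, himg x (mem_sup_right (mem_zpowers x)) hx⟩
    have hex : (e : G) = x := mul_left_cancel (mul_right_cancel (congrArg Subtype.val he))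
    exact hex ▸ e.2
  have hmoved : ∃ z ∈ normalizer (E : Set G), ∃ e ∈ E, z * e * z⁻¹ ≠ e := by
    by_contra hno
    push Not at hno
    obtain ⟨P, N, hN, hNc⟩ := Transfer.hasNormalPComplement_of_normalizer_le_centralizer S
      (fun y hy => mem_centralizer_iff.2 fun b hb => by
        have hyE : y ∈ normalizer (E : Set G) := by
          refine mem_normalizer_iff.2 fun e => ?_
          show e ∈ (S : Subgroup G) ∧ _ ↔ _ ∧ _
          rw [mem_normalizer_iff.1 hy e, conj_pow, conj_eq_one_iff]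
        obtain ⟨k, hk⟩ : ∃ k, (orderOf y).factorization 2 = k := ⟨_, rfl⟩
        obtain ⟨m, hm⟩ := Nat.ordProj_dvd (orderOf y) 2
        rw [hk] at hm
        have hm2 : Odd m := by
          have := Nat.not_dvd_ordCompl Nat.prime_two (orderOf_pos y).ne'
          rw [hk, hm, Nat.mul_div_cancel_left _ (pow_pos two_pos k)] at this
          exact Nat.not_even_iff_odd.1 fun h => this h.two_dvd
        have h1 : y ^ m ∈ (S : Subgroup G) := by
          have hS' : IsPGroup 2 ↥((S : Subgroup G) ⊔ zpowers (y ^ m)) := by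
            refine IsPGroup.to_sup_of_normal_left' S.2 (fun w => ⟨k, ?_⟩)
              (zpowers_le.2 (pow_mem hy m))
            obtain ⟨i, hi⟩ := w.2
            apply Subtype.ext
            show (w : G) ^ 2 ^ k = 1
            rw [← hi, ← zpow_natCast, ← zpow_mul, mul_comm, zpow_mul, zpow_natCast, ← pow_mul,
              mul_comm m, ← hm, pow_orderOf_eq_one, one_zpow]
          rw [← S.3 hS' le_sup_left]
          exact mem_sup_right (mem_zpowers _)
        have h2y : Odd (orderOf (y ^ 2 ^ k)) := by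
          rw [orderOf_pow' _ (pow_ne_zero _ two_ne_zero),
            Nat.gcd_eq_right (hm ▸ Dvd.intro m rfl), hm,
            Nat.mul_div_cancel_left _ (pow_pos two_pos k)]
          exact hm2
        obtain ⟨j, hj⟩ := S.2 ⟨b, hb⟩
        have hc2 := commute_of_commute_omega h2y S.2 hcomm (pow_mem hy _)
          (fun u hu hu2 => mul_inv_eq_iff_eq_mul.1 (hno _ (pow_mem hyE _) u ⟨hu, hu2⟩))
          j b hb (congrArg Subtype.val hj)
        refine (commute_of_pow_coprime (show Commute (y ^ m) b from hcomm _ h1 _ hb) hc2 ?_).eq.symm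
        exact Nat.Coprime.pow_right k (hm2.coprime_two_right))
    haveI := hN
    rcases hc.eq_bot_or_top hN with hbot | htop
    · refine hc.ne_top_of_comm (fun x hx y hy => hc.twoGroup_comm P.2 hx hy) ?_
      have := hNc.sup_eq_top
      rwa [hbot, bot_sup_eq] at this
    · have h1 := hNc.disjoint
      rw [htop, disjoint_iff, top_inf_eq] at h1
      exact P.ne_bot_of_dvd_card hc.even h1
  refine ⟨E, hc, hE, ⟨S, hES⟩, hmoved, ?_⟩
  obtain ⟨z, hz, e, he, hne⟩ := hmoved
  have h6 := card_ge_succ hc.ab hE hc.p_ne_two hz he fun h => hne (by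
    rw [h.eq, mul_inv_cancel_right])
  obtain ⟨r, hr⟩ := (S.2.to_le hES).exists_card_eq
  have := hc.five
  rw [hr] at h6 ⊢
  exact Nat.pow_le_pow_right two_pos (by
    by_contra h3
    have : r ≤ 2 := by omega
    interval_cases r <;> omega)

end Cfsg.Agent.OddPre.PPrimeAbelian
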